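/-
Commensurability classes of large abelian subgroups in a finite group whose element centralizers
modulo a central subgroup have abelian subgroups of bounded index (the group-theoretic core of
Jordan's argument on finite linear groups).
-/
import Mathlib

set_option autoImplicit false
set_option linter.unusedSectionVars false
set_option linter.style.haveILetI false

open scoped Pointwise

namespace CfsgLib.ModularJordan

/-- The hypotheses on the group, its central subgroup and the family of abelian subgroups. -/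
structure Ctx (G : Type*) [Group G] (n K : ℕ) where
  /-- The central subgroup. -/
  Z : Subgroup G
  /-- The admissible abelian subgroups. -/
  Ab : Subgroup G → Prop
  npos : 0 < n
  Kpos : 0 < K
  central : ∀ ζ ∈ Z, ∀ g : G, g * ζ = ζ * g
  base : Ab Z
  mem_Z : ∀ A, Ab A → Z ≤ A
  comm : ∀ A, Ab A → ∀ a ∈ A, ∀ b ∈ A, a * b = b * a
  mono : ∀ A B, Ab A → Z ≤ B → B ≤ A → Ab B
  conj : ∀ A (g : G), Ab A → Ab (MulAut.conj g • A)
  cent : ∀ x : G, x ∉ Z → ∃ A, Ab A ∧ A ≤ Subgroup.centralizer {x} ∧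
    Nat.card ↥(Subgroup.centralizer ({x} : Set G)) ≤ K * Nat.card ↥A
  scal : ∀ x : G, {ζ : G | ζ ∈ Z ∧ ∃ h : G, h * x * h⁻¹ = x * ζ}.ncard ≤ n
  powBound : ∀ A, Ab A → ∀ N : ℕ, 0 < N → (∀ a ∈ A, a ^ N ∈ Z) →
    Nat.card ↥A ≤ N ^ n * Nat.card ↥Z
  orbBound : ∀ A, Ab A → ∀ y ∈ A, {b : G | b ∈ A ∧ ∃ h : G, h * y * h⁻¹ = b}.ncard ≤ n ^ n

/-- Commensurability constant. -/
def cR (K : ℕ) : ℕ := K ^ 4
/-- Lower bound for the top subgroups. -/
def cT0 (n K : ℕ) : ℕ := cR K * cR K + (cR K).factorial ^ n + K + 2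
/-- Association threshold. -/
def cT1 (K : ℕ) : ℕ := K * (cR K * cR K + 1)
/-- Centralizers above this size are associated with a class. -/
def cT2 (n K : ℕ) : ℕ := (K.factorial * K.factorial) ^ n + K * cT0 n K + cR K * cT1 K
/-- The index bound of a top subgroup in its class stabilizer. -/
def cC0 (n K : ℕ) : ℕ := n ^ n * (K * (K * K))

section General

variable {G : Type*} [Group G] [Finite G]

theorem card_mul_card_le {A B C : Subgroup G} (hA : A ≤ C) (hB : B ≤ C) :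
    Nat.card ↥A * Nat.card ↥B ≤ Nat.card ↥(A ⊓ B) * Nat.card ↥C := by
  have h1 : Nat.card ↥(A ⊓ B) * A.relIndex B = Nat.card ↥B := by
    rw [← Subgroup.inf_relIndex_right A B,
      ← Nat.card_congr (Subgroup.subgroupOfEquivOfLe (inf_le_right : A ⊓ B ≤ B)).toEquiv]
    exact Subgroup.card_mul_index _
  have h2 : Nat.card ↥A * A.relIndex C = Nat.card ↥C := by
    rw [← Nat.card_congr (Subgroup.subgroupOfEquivOfLe hA).toEquiv]
    exact Subgroup.card_mul_index _
  have h3 : A.relIndex B ≤ A.relIndex C :=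
    Subgroup.relIndex_le_of_le_right hB Subgroup.index_ne_zero_of_finite
  calc Nat.card ↥A * Nat.card ↥B = Nat.card ↥(A ⊓ B) * (Nat.card ↥A * A.relIndex B) := by
        rw [← h1]; ring
    _ ≤ Nat.card ↥(A ⊓ B) * (Nat.card ↥A * A.relIndex C) := by gcongr
    _ = _ := by rw [h2]

theorem pow_factorial_mem_of_card_le {A B : Subgroup G} {k : ℕ}
    (hcomm : ∀ a ∈ A, ∀ b ∈ A, a * b = b * a)
    (h : Nat.card ↥A ≤ k * Nat.card ↥(A ⊓ B)) {a : G} (ha : a ∈ A) : a ^ k.factorial ∈ B := by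
  haveI : (B.subgroupOf A).Normal := by
    refine ⟨fun x hx g => ?_⟩
    have : g * x * g⁻¹ = x := by
      rw [mul_inv_eq_iff_eq_mul]
      exact Subtype.ext (hcomm _ g.2 _ x.2)
    rwa [this]
  have h1 : Nat.card ↥(A ⊓ B) * (B.subgroupOf A).index = Nat.card ↥A := by
    rw [inf_comm, ← Nat.card_congr (Subgroup.subgroupOfEquivOfLe
      (inf_le_right : B ⊓ A ≤ A)).toEquiv, Subgroup.inf_subgroupOf_right]
    exact Subgroup.card_mul_index _
  have h2 : (B.subgroupOf A).index ≤ k := by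
    rw [← h1, mul_comm k] at h
    exact Nat.le_of_mul_le_mul_left h Nat.card_pos
  have h3 : (B.subgroupOf A).index ∣ k.factorial :=
    Nat.dvd_factorial (Nat.pos_of_ne_zero Subgroup.index_ne_zero_of_finite) h2
  obtain ⟨j, hj⟩ := h3
  have h4 := (B.subgroupOf A).pow_index_mem (⟨a, ha⟩ : A)
  have h5 := Subgroup.pow_mem _ h4 j
  rw [← pow_mul, ← hj, Subgroup.mem_subgroupOf] at h5
  simpa using h5

end General

namespace Ctx

variable {G : Type*} [Group G] [Finite G] {n K : ℕ} (C : Ctx G n K)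

/-- The chosen abelian subgroup of bounded index in a centralizer. -/
noncomputable def A (x : G) (hx : x ∉ C.Z) : Subgroup G := (C.cent x hx).choose

theorem A_ab {x : G} (hx : x ∉ C.Z) : C.Ab (C.A x hx) := (C.cent x hx).choose_spec.1

theorem A_le {x : G} (hx : x ∉ C.Z) : C.A x hx ≤ Subgroup.centralizer {x} :=
  (C.cent x hx).choose_spec.2.1

theorem card_centralizer_le {x : G} (hx : x ∉ C.Z) :
    Nat.card ↥(Subgroup.centralizer ({x} : Set G)) ≤ K * Nat.card ↥(C.A x hx) :=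
  (C.cent x hx).choose_spec.2.2

theorem card_le_inf_A {x : G} (hx : x ∉ C.Z) {B : Subgroup G}
    (hB : B ≤ Subgroup.centralizer {x}) :
    Nat.card ↥B ≤ K * Nat.card ↥(B ⊓ C.A x hx) := by
  have h := card_mul_card_le hB (C.A_le hx)
  have h2 : Nat.card ↥B * Nat.card ↥(C.A x hx)
      ≤ K * Nat.card ↥(B ⊓ C.A x hx) * Nat.card ↥(C.A x hx) :=
    calc _ ≤ _ := h
      _ ≤ Nat.card ↥(B ⊓ C.A x hx) * (K * Nat.card ↥(C.A x hx)) :=
        Nat.mul_le_mul_left _ (C.card_centralizer_le hx)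
      _ = _ := by ring
  exact Nat.le_of_mul_le_mul_right h2 Nat.card_pos

theorem le_centralizer_of_mem {A : Subgroup G} (hA : C.Ab A) {x : G} (hx : x ∈ A) :
    A ≤ Subgroup.centralizer {x} := fun a ha =>
  Subgroup.mem_centralizer_singleton_iff.mpr (C.comm A hA a ha x hx)

theorem card_ab_le_inf_A {A : Subgroup G} (hA : C.Ab A) {x : G} (hx : x ∉ C.Z) (hxA : x ∈ A) :
    Nat.card ↥A ≤ K * Nat.card ↥(A ⊓ C.A x hx) :=
  C.card_le_inf_A hx (C.le_centralizer_of_mem hA hxA)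

theorem not_le_Z_of_card {A : Subgroup G} (h : Nat.card ↥C.Z < Nat.card ↥A) : ¬ A ≤ C.Z :=
  fun hle => absurd (Nat.card_le_card_of_injective _ (Subgroup.inclusion_injective hle))
    (not_le.mpr h)

theorem exists_pow_notMem {A : Subgroup G} (hA : C.Ab A) {N : ℕ} (hN : 0 < N)
    (h : N ^ n * Nat.card ↥C.Z < Nat.card ↥A) : ∃ a ∈ A, a ^ N ∉ C.Z := by
  by_contra hc
  push Not at hc
  exact absurd (C.powBound A hA N hN hc) (not_le.mpr h)

/-- Locally maximal large abelian subgroups. -/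
def Top (M : Subgroup G) : Prop :=
  C.Ab M ∧ cT0 n K * Nat.card ↥C.Z < Nat.card ↥M ∧
    ∀ B, C.Ab B → ¬ M ⊓ B ≤ C.Z → Nat.card ↥B ≤ K * K * Nat.card ↥M

theorem exists_top_inf {A : Subgroup G} (hA : C.Ab A)
    (h : cT2 n K * Nat.card ↥C.Z < Nat.card ↥A) : ∃ M, C.Top M ∧ ¬ M ⊓ A ≤ C.Z := by
  have hN : 0 < K.factorial * K.factorial :=
    Nat.mul_pos (Nat.factorial_pos K) (Nat.factorial_pos K)
  obtain ⟨a, ha, haw⟩ := C.exists_pow_notMem hA hN (lt_of_le_of_lt
    (Nat.mul_le_mul_right _ (by unfold cT2; omega)) h)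
  set M := C.A _ haw with hM
  have hwA : a ^ (K.factorial * K.factorial) ∈ A := A.pow_mem ha _
  have h1 : Nat.card ↥A ≤ K * Nat.card ↥(A ⊓ M) := C.card_ab_le_inf_A hA haw hwA
  have hy : a ^ K.factorial ∈ M := pow_factorial_mem_of_card_le (C.comm A hA) h1 ha
  have h2 : cT0 n K * Nat.card ↥C.Z < Nat.card ↥(A ⊓ M) := by
    by_contra hc
    push Not at hc
    have : K * cT0 n K * Nat.card ↥C.Z ≤ cT2 n K * Nat.card ↥C.Z :=
      Nat.mul_le_mul_right _ (by unfold cT2; omega)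
    nlinarith [Nat.mul_le_mul_left K hc]
  refine ⟨M, ⟨C.A_ab haw, lt_of_lt_of_le h2 (Nat.card_le_card_of_injective _
    (Subgroup.inclusion_injective inf_le_right)), fun B hB hMB => ?_⟩, ?_⟩
  · obtain ⟨v, ⟨hvM, hvB⟩, hv⟩ := SetLike.not_le_iff_exists.mp hMB
    have h3 : Nat.card ↥M ≤ K * Nat.card ↥(M ⊓ C.A v hv) := C.card_ab_le_inf_A (C.A_ab haw) hv hvM
    have hwv : a ^ (K.factorial * K.factorial) ∈ C.A v hv := by
      rw [pow_mul]
      exact pow_factorial_mem_of_card_le (C.comm _ (C.A_ab haw)) h3 hy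
    calc Nat.card ↥B ≤ K * Nat.card ↥(B ⊓ C.A v hv) := C.card_ab_le_inf_A hB hv hvB
      _ ≤ K * Nat.card ↥(C.A v hv) := Nat.mul_le_mul_left _ (Nat.card_le_card_of_injective _
          (Subgroup.inclusion_injective inf_le_right))
      _ ≤ K * (K * Nat.card ↥(C.A v hv ⊓ M)) :=
          Nat.mul_le_mul_left _ (C.card_ab_le_inf_A (C.A_ab hv) haw hwv)
      _ ≤ K * (K * Nat.card ↥M) := Nat.mul_le_mul_left _ (Nat.mul_le_mul_left _
          (Nat.card_le_card_of_injective _ (Subgroup.inclusion_injective inf_le_right)))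
      _ = _ := by ring
  · rw [inf_comm]
    refine C.not_le_Z_of_card (lt_of_le_of_lt ?_ h2)
    exact Nat.le_mul_of_pos_left _ (by unfold cT0; omega)

theorem top_gt_mul {M : Subgroup G} (hM : C.Top M) {t : ℕ} (ht : t ≤ cT0 n K) :
    t * Nat.card ↥C.Z < Nat.card ↥M :=
  lt_of_le_of_lt (Nat.mul_le_mul_right _ ht) hM.2.1

theorem A_card_le_of_mem {M : Subgroup G} (hM : C.Top M) {v : G} (hv : v ∉ C.Z) (hvM : v ∈ M) :
    Nat.card ↥(C.A v hv) ≤ K * K * Nat.card ↥M := by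
  refine hM.2.2 _ (C.A_ab hv) (C.not_le_Z_of_card ?_)
  have h1 := C.card_ab_le_inf_A hM.1 hv hvM
  have h2 := C.top_gt_mul hM (t := K) (by unfold cT0; omega)
  exact Nat.lt_of_mul_lt_mul_left (lt_of_lt_of_le h2 h1)

theorem top_inter {M B : Subgroup G} (hM : C.Top M) (hB : C.Ab B) (hMB : ¬ M ⊓ B ≤ C.Z) :
    Nat.card ↥B ≤ cR K * Nat.card ↥(M ⊓ B) := by
  obtain ⟨v, ⟨hvM, hvB⟩, hv⟩ := SetLike.not_le_iff_exists.mp hMB
  set D := C.A v hv
  have h1 : Nat.card ↥M ≤ K * Nat.card ↥(M ⊓ D) := C.card_ab_le_inf_A hM.1 hv hvM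
  have h2 : Nat.card ↥B ≤ K * Nat.card ↥(B ⊓ D) := C.card_ab_le_inf_A hB hv hvB
  have h3 := card_mul_card_le (A := M ⊓ D) (B := B ⊓ D) (C := D) inf_le_right inf_le_right
  have h4 : Nat.card ↥((M ⊓ D) ⊓ (B ⊓ D)) ≤ Nat.card ↥(M ⊓ B) :=
    Nat.card_le_card_of_injective _ (Subgroup.inclusion_injective
      (inf_le_inf inf_le_left inf_le_left))
  have h5 : Nat.card ↥D ≤ K * K * Nat.card ↥M := C.A_card_le_of_mem hM hv hvM
  have h6 : Nat.card ↥M * Nat.card ↥B ≤ Nat.card ↥M * (cR K * Nat.card ↥(M ⊓ B)) :=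
    calc Nat.card ↥M * Nat.card ↥B
        ≤ (K * Nat.card ↥(M ⊓ D)) * (K * Nat.card ↥(B ⊓ D)) := Nat.mul_le_mul h1 h2
      _ = K * K * (Nat.card ↥(M ⊓ D) * Nat.card ↥(B ⊓ D)) := by ring
      _ ≤ K * K * (Nat.card ↥(M ⊓ B) * (K * K * Nat.card ↥M)) :=
          Nat.mul_le_mul_left _ (h3.trans (Nat.mul_le_mul h4 h5))
      _ = _ := by unfold cR; ring
  exact Nat.le_of_mul_le_mul_left h6 Nat.card_pos

theorem cR_sq_mul_inter {E M₁ M₂ : Subgroup G} {t : ℕ}
    (hE : cR K * cR K * t < Nat.card ↥E)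
    (h1 : Nat.card ↥E ≤ cR K * Nat.card ↥(M₁ ⊓ E))
    (h2 : Nat.card ↥E ≤ cR K * Nat.card ↥(M₂ ⊓ E)) : t < Nat.card ↥(M₁ ⊓ M₂) := by
  by_contra hc
  push Not at hc
  have h3 := card_mul_card_le (A := M₁ ⊓ E) (B := M₂ ⊓ E) (C := E) inf_le_right inf_le_right
  have h4 : Nat.card ↥((M₁ ⊓ E) ⊓ (M₂ ⊓ E)) ≤ t :=
    le_trans (Nat.card_le_card_of_injective _ (Subgroup.inclusion_injective
      (inf_le_inf inf_le_left inf_le_left))) hc
  have h5 : Nat.card ↥E * Nat.card ↥E ≤ cR K * cR K * t * Nat.card ↥E :=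
    calc Nat.card ↥E * Nat.card ↥E
        ≤ (cR K * Nat.card ↥(M₁ ⊓ E)) * (cR K * Nat.card ↥(M₂ ⊓ E)) := Nat.mul_le_mul h1 h2
      _ = cR K * cR K * (Nat.card ↥(M₁ ⊓ E) * Nat.card ↥(M₂ ⊓ E)) := by ring
      _ ≤ cR K * cR K * (t * Nat.card ↥E) :=
          Nat.mul_le_mul_left _ (h3.trans (Nat.mul_le_mul_right _ h4))
      _ = _ := by ring
  exact absurd (Nat.le_of_mul_le_mul_right h5 Nat.card_pos) (not_le.mpr hE)

/-- The type of top subgroups. -/
abbrev Tops : Type _ := {M : Subgroup G // C.Top M}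

/-- Two tops are related when they share an element outside the central subgroup. -/
def Rel (M N : C.Tops) : Prop := ¬ M.1 ⊓ N.1 ≤ C.Z

theorem rel_trans {M N P : C.Tops} (h1 : C.Rel M N) (h2 : C.Rel N P) : C.Rel M P := by
  have a1 := C.top_inter M.2 N.2.1 h1
  have a2 := C.top_inter P.2 N.2.1 (by rw [inf_comm]; exact h2)
  refine C.not_le_Z_of_card (cR_sq_mul_inter ?_ a1 a2)
  exact C.top_gt_mul N.2 (by unfold cT0; omega)

instance topsSetoid : Setoid C.Tops where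
  r := C.Rel
  iseqv :=
    { refl := fun M => by
        refine C.not_le_Z_of_card ?_
        rw [inf_idem]
        simpa using C.top_gt_mul M.2 (t := 1) (by unfold cT0; omega)
      symm := fun {M N} h => by
        show ¬ N.1 ⊓ M.1 ≤ C.Z
        rw [inf_comm]; exact h
      trans := fun h1 h2 => C.rel_trans h1 h2 }

/-- Commensurability classes of tops. -/
abbrev Cls : Type _ := Quotient C.topsSetoid

instance : Finite C.Tops := Subtype.finite

instance : Finite C.Cls := Quotient.finite _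

theorem conj_smul_Z (g : G) : MulAut.conj g • C.Z = C.Z := by
  ext x
  rw [Subgroup.mem_pointwise_smul_iff_inv_smul_mem]
  rw [MulAut.smul_def, MulAut.conj_inv_apply]
  show g⁻¹ * x * g ∈ C.Z ↔ x ∈ C.Z
  constructor
  · intro h
    have := C.central _ h g
    rw [show g * (g⁻¹ * x * g) = x * g by group] at this
    rwa [← mul_right_cancel this] at h
  · intro h
    rw [mul_assoc, ← C.central x h g, ← mul_assoc, inv_mul_cancel, one_mul]
    exact h

theorem card_conj_smul (H : Subgroup G) (g : G) :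
    Nat.card ↥(MulAut.conj g • H) = Nat.card ↥H :=
  (Nat.card_congr (Subgroup.equivSMul (MulAut.conj g) H).toEquiv).symm

theorem conj_smul_le_Z_iff (H : Subgroup G) (g : G) : MulAut.conj g • H ≤ C.Z ↔ H ≤ C.Z := by
  conv_lhs => rw [← C.conj_smul_Z g]
  exact Subgroup.pointwise_smul_le_pointwise_smul_iff

theorem top_conj {M : Subgroup G} (hM : C.Top M) (g : G) : C.Top (MulAut.conj g • M) := by
  refine ⟨C.conj M g hM.1, by rw [card_conj_smul]; exact hM.2.1, fun B hB h => ?_⟩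
  rw [card_conj_smul]
  have hB' := C.conj B g⁻¹ hB
  rw [map_inv] at hB'
  rw [← card_conj_smul B g⁻¹, map_inv]
  refine hM.2.2 _ hB' fun hle => h ?_
  rw [← C.conj_smul_le_Z_iff _ g⁻¹, map_inv, Subgroup.smul_inf, inv_smul_smul]
  exact hle

instance : SMul G C.Tops := ⟨fun g M => ⟨MulAut.conj g • M.1, C.top_conj M.2 g⟩⟩

theorem smul_val (g : G) (M : C.Tops) : (g • M).1 = MulAut.conj g • M.1 := rfl

instance : MulAction G C.Tops where
  one_smul M := Subtype.ext (by rw [smul_val, map_one, one_smul])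
  mul_smul g h M := Subtype.ext (by rw [smul_val, map_mul, mul_smul, smul_val, smul_val])

theorem rel_smul (g : G) {M N : C.Tops} (h : C.Rel M N) : C.Rel (g • M) (g • N) := by
  intro hle
  rw [smul_val, smul_val, ← Subgroup.smul_inf, conj_smul_le_Z_iff] at hle
  exact h hle

instance : SMul G C.Cls := ⟨fun g => Quotient.map' (g • ·) fun _ _ h => C.rel_smul g h⟩

theorem smul_mk (g : G) (M : C.Tops) :
    g • (Quotient.mk'' M : C.Cls) = Quotient.mk'' (g • M) := rfl

instance : MulAction G C.Cls where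
  one_smul c := Quotient.inductionOn' c fun M => by rw [smul_mk, one_smul]
  mul_smul g h c := Quotient.inductionOn' c fun M => by rw [smul_mk, smul_mk, smul_mk, mul_smul]

/-- Stabilizer of a class. -/
abbrev H (c : C.Cls) : Subgroup G := MulAction.stabilizer G c

/-- A chosen member of a class. -/
noncomputable def rep (c : C.Cls) : C.Tops := Quotient.out c

theorem mk_rep (c : C.Cls) : (Quotient.mk'' (C.rep c) : C.Cls) = c := Quotient.out_eq c

theorem mk_eq_iff {M N : C.Tops} :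
    (Quotient.mk'' M : C.Cls) = Quotient.mk'' N ↔ C.Rel M N := Quotient.eq''

theorem smul_top_self {M : C.Tops} {g : G} (hg : g ∈ M.1) : g • M = M := by
  refine Subtype.ext ?_
  rw [smul_val]
  exact Subgroup.conj_smul_eq_self_of_mem hg

theorem mem_H_of_mem {c : C.Cls} {M : C.Tops} (hM : Quotient.mk'' M = c) {g : G} (hg : g ∈ M.1) :
    g ∈ C.H c := by
  subst hM
  rw [MulAction.mem_stabilizer_iff, smul_mk, C.smul_top_self hg]

theorem Z_le_H (c : C.Cls) : C.Z ≤ C.H c := fun _ hζ =>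
  C.mem_H_of_mem (C.mk_rep c) (C.mem_Z _ (C.rep c).2.1 hζ)

theorem card_H_le (c : C.Cls) : Nat.card ↥(C.H c) ≤ cC0 n K * Nat.card ↥(C.rep c).1 := by
  classical
  haveI := Fintype.ofFinite G
  set M := C.rep c
  obtain ⟨a, ha, hau⟩ := C.exists_pow_notMem M.2.1 (Nat.factorial_pos (cR K))
    (C.top_gt_mul M.2 (by unfold cT0; omega))
  set u := a ^ (cR K).factorial with hu
  have huM : u ∈ M.1 := M.1.pow_mem ha _
  have hin : ∀ h ∈ C.H c, h⁻¹ * u * h ∈ M.1 := by
    intro h hh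
    have hrel : C.Rel M (h • M) := by
      rw [← C.mk_eq_iff, ← C.smul_mk, C.mk_rep]
      exact (MulAction.mem_stabilizer_iff.mp hh).symm
    have h1 : Nat.card ↥M.1 ≤ cR K * Nat.card ↥(M.1 ⊓ (h • M).1) := by
      rw [inf_comm]
      exact C.top_inter (h • M).2 M.2.1 (by rw [inf_comm]; exact hrel)
    have h2 : u ∈ (h • M).1 := pow_factorial_mem_of_card_le (C.comm _ M.2.1) h1 ha
    rw [smul_val, Subgroup.mem_pointwise_smul_iff_inv_smul_mem] at h2
    simpa [MulAut.smul_def] using h2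
  have hcen : Nat.card ↥(Subgroup.centralizer ({u} : Set G)) ≤ K * (K * K) * Nat.card ↥M.1 :=
    calc _ ≤ K * Nat.card ↥(C.A u hau) := C.card_centralizer_le hau
      _ ≤ K * (K * K * Nat.card ↥M.1) := Nat.mul_le_mul_left _ (C.A_card_le_of_mem M.2 hau huM)
      _ = _ := by ring
  let s : Finset G := Finset.univ.filter (· ∈ C.H c)
  have himg : (s.image fun h => h⁻¹ * u * h).card ≤ n ^ n := by
    rw [← Set.ncard_coe_finset]
    refine le_trans (Set.ncard_le_ncard ?_ (Set.toFinite _)) (C.orbBound _ M.2.1 u huM)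
    intro b hb
    simp only [Finset.coe_image, Set.mem_image, Finset.mem_coe, s, Finset.mem_filter,
      Finset.mem_univ, true_and] at hb
    obtain ⟨h, hh, rfl⟩ := hb
    exact ⟨hin h hh, h⁻¹, by group⟩
  have hfib : ∀ b ∈ s.image (fun h => h⁻¹ * u * h),
      (s.filter fun h => h⁻¹ * u * h = b).card ≤ Nat.card ↥(Subgroup.centralizer ({u} : Set G)) := by
    intro b hb
    obtain ⟨h0, _, rfl⟩ := Finset.mem_image.mp hb
    rw [← Nat.card_eq_finsetCard]
    refine Nat.card_le_card_of_injective (fun h => ⟨h.1 * h0⁻¹, ?_⟩) ?_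
    · have hh := (Finset.mem_filter.mp h.2).2
      rw [Subgroup.mem_centralizer_singleton_iff]
      calc h.1 * h0⁻¹ * u = h.1 * (h0⁻¹ * u * h0) * h0⁻¹ := by group
        _ = h.1 * (h.1⁻¹ * u * h.1) * h0⁻¹ := by rw [hh]
        _ = u * (h.1 * h0⁻¹) := by group
    · intro h h' e
      exact Subtype.ext (mul_right_cancel (Subtype.ext_iff.mp e))
  have hs : s.card = Nat.card ↥(C.H c) := by
    rw [Nat.card_eq_fintype_card, Fintype.card_subtype]
  calc Nat.card ↥(C.H c) = s.card := hs.symm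
    _ ≤ Nat.card ↥(Subgroup.centralizer ({u} : Set G)) * (s.image fun h => h⁻¹ * u * h).card :=
        Finset.card_le_mul_card_image s _ hfib
    _ ≤ K * (K * K) * Nat.card ↥M.1 * n ^ n := Nat.mul_le_mul hcen himg
    _ = _ := by unfold cC0; ring

theorem sum_card_H_le [Fintype C.Cls] :
    ∑ c, Nat.card ↥(C.H c) ≤ 2 * cC0 n K * Nat.card G := by
  have hinj : Function.Injective
      (fun p : Σ c : C.Cls, {x : G // x ∈ (C.rep c).1 ∧ x ∉ C.Z} => (p.2 : G)) := by
    rintro ⟨c, x, hx, hxZ⟩ ⟨c', x', hx', hxZ'⟩ (rfl : x = x')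
    have hc : c = c' := by
      rw [← C.mk_rep c, ← C.mk_rep c', C.mk_eq_iff]
      exact fun hle => hxZ (hle ⟨hx, hx'⟩)
    subst hc
    rfl
  have h1 := Nat.card_le_card_of_injective _ hinj
  rw [Nat.card_sigma] at h1
  have h2 : ∀ c, Nat.card ↥(C.rep c).1 = Nat.card ↥C.Z +
      Nat.card {x : G // x ∈ (C.rep c).1 ∧ x ∉ C.Z} := by
    intro c
    rw [add_comm]
    show ((C.rep c).1 : Set G).ncard = ((C.rep c).1 \ C.Z : Set G).ncard + (C.Z : Set G).ncard
    exact (Set.ncard_sdiff_add_ncard_of_subset (C.mem_Z _ (C.rep c).2.1)).symm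
  have h3 : ∀ c, Nat.card ↥(C.H c) ≤
      2 * cC0 n K * Nat.card {x : G // x ∈ (C.rep c).1 ∧ x ∉ C.Z} := by
    intro c
    refine le_trans (C.card_H_le c) ?_
    have := C.top_gt_mul (C.rep c).2 (t := 2) (by unfold cT0; omega)
    rw [mul_assoc 2, mul_comm 2, mul_assoc]
    refine Nat.mul_le_mul_left _ ?_
    have := h2 c
    omega
  calc ∑ c, Nat.card ↥(C.H c)
      ≤ ∑ c, 2 * cC0 n K * Nat.card {x : G // x ∈ (C.rep c).1 ∧ x ∉ C.Z} :=
        Finset.sum_le_sum fun c _ => h3 c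
    _ = 2 * cC0 n K * ∑ c, Nat.card {x : G // x ∈ (C.rep c).1 ∧ x ∉ C.Z} :=
        (Finset.mul_sum _ _ _).symm
    _ ≤ _ := Nat.mul_le_mul_left _ h1

/-- An element is associated with a class. -/
def Assoc (x : G) (c : C.Cls) : Prop :=
  x ∉ C.Z ∧ ∃ M : C.Tops, Quotient.mk'' M = c ∧
    cT1 K * Nat.card ↥C.Z < Nat.card ↥(M.1 ⊓ Subgroup.centralizer {x})

theorem assoc_inf_A {x : G} (hx : x ∉ C.Z) {M : C.Tops}
    (h : cT1 K * Nat.card ↥C.Z < Nat.card ↥(M.1 ⊓ Subgroup.centralizer {x})) :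
    (cR K * cR K + 1) * Nat.card ↥C.Z < Nat.card ↥(M.1 ⊓ C.A x hx) := by
  have h1 := C.card_le_inf_A hx (B := M.1 ⊓ Subgroup.centralizer {x}) inf_le_right
  have h2 : Nat.card ↥((M.1 ⊓ Subgroup.centralizer {x}) ⊓ C.A x hx) ≤
      Nat.card ↥(M.1 ⊓ C.A x hx) :=
    Nat.card_le_card_of_injective _ (Subgroup.inclusion_injective
      (inf_le_inf inf_le_left le_rfl))
  have h3 := h.trans_le (h1.trans (Nat.mul_le_mul_left K h2))
  rw [cT1, mul_assoc] at h3
  exact Nat.lt_of_mul_lt_mul_left h3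

theorem assoc_unique {x : G} {c c' : C.Cls} (h : C.Assoc x c) (h' : C.Assoc x c') : c = c' := by
  obtain ⟨hx, M, rfl, hM⟩ := h
  obtain ⟨-, M', rfl, hM'⟩ := h'
  rw [C.mk_eq_iff]
  have a1 := C.assoc_inf_A hx hM
  have a2 := C.assoc_inf_A hx hM'
  have hz : Nat.card ↥C.Z ≤ (cR K * cR K + 1) * Nat.card ↥C.Z :=
    Nat.le_mul_of_pos_left _ (by omega)
  refine C.not_le_Z_of_card (cR_sq_mul_inter (E := C.A x hx) ?_
    (C.top_inter M.2 (C.A_ab hx) (C.not_le_Z_of_card (lt_of_le_of_lt hz a1)))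
    (C.top_inter M'.2 (C.A_ab hx) (C.not_le_Z_of_card (lt_of_le_of_lt hz a2))))
  refine lt_of_le_of_lt (Nat.mul_le_mul_right _ (Nat.le_succ _)) (lt_of_lt_of_le a1 ?_)
  exact Nat.card_le_card_of_injective _ (Subgroup.inclusion_injective inf_le_right)

theorem assoc_conj {x : G} {c : C.Cls} (h : C.Assoc x c) (g : G) :
    C.Assoc (g * x * g⁻¹) (g • c) := by
  obtain ⟨hx, M, rfl, hM⟩ := h
  refine ⟨fun hz => hx ?_, g • M, (C.smul_mk g M).symm, ?_⟩
  · rw [← C.conj_smul_Z g⁻¹, Subgroup.mem_pointwise_smul_iff_inv_smul_mem]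
    simpa [MulAut.smul_def] using hz
  · have : (g • M).1 ⊓ Subgroup.centralizer {g * x * g⁻¹}
        = MulAut.conj g • (M.1 ⊓ Subgroup.centralizer {x}) := by
      rw [Subgroup.smul_inf, smul_val]
      congr 1
      ext y
      rw [Subgroup.mem_pointwise_smul_iff_inv_smul_mem, Subgroup.mem_centralizer_singleton_iff,
        Subgroup.mem_centralizer_singleton_iff]
      show _ ↔ (MulAut.conj g)⁻¹ y * x = x * (MulAut.conj g)⁻¹ y
      simp only [MulAut.conj_inv_apply]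
      constructor
      · intro e
        calc g⁻¹ * y * g * x = g⁻¹ * (y * (g * x * g⁻¹)) * g := by group
          _ = g⁻¹ * ((g * x * g⁻¹) * y) * g := by rw [e]
          _ = _ := by group
      · intro e
        calc y * (g * x * g⁻¹) = g * (g⁻¹ * y * g * x) * g⁻¹ := by group
          _ = g * (x * (g⁻¹ * y * g)) * g⁻¹ := by rw [e]
          _ = _ := by group
    rw [this, card_conj_smul]
    exact hM

theorem assoc_mem_H {x : G} {c : C.Cls} (h : C.Assoc x c) : x ∈ C.H c := by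
  have h2 := C.assoc_conj h x
  rw [mul_inv_cancel_right] at h2
  exact MulAction.mem_stabilizer_iff.mpr (C.assoc_unique h2 h)

theorem centralizer_mul_Z (x : G) {ζ : G} (hζ : ζ ∈ C.Z) :
    Subgroup.centralizer ({x * ζ} : Set G) = Subgroup.centralizer {x} := by
  ext g
  rw [Subgroup.mem_centralizer_singleton_iff, Subgroup.mem_centralizer_singleton_iff,
    ← mul_assoc, mul_assoc x ζ g, ← C.central ζ hζ g, ← mul_assoc, mul_right_cancel_iff]

theorem assoc_mul_Z {x : G} {c : C.Cls} (h : C.Assoc x c) {ζ : G} (hζ : ζ ∈ C.Z) :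
    C.Assoc (x * ζ) c := by
  obtain ⟨hx, M, hc, hM⟩ := h
  exact ⟨fun hz => hx (by simpa using C.Z.mul_mem hz (C.Z.inv_mem hζ)), M, hc,
    by rwa [C.centralizer_mul_Z x hζ]⟩

theorem exists_assoc {x : G} (hx : x ∉ C.Z)
    (h : K * cT2 n K * Nat.card ↥C.Z < Nat.card ↥(Subgroup.centralizer ({x} : Set G))) :
    ∃ c, C.Assoc x c := by
  have hA : cT2 n K * Nat.card ↥C.Z < Nat.card ↥(C.A x hx) := by
    have := h.trans_le (C.card_centralizer_le hx)
    rw [mul_assoc] at this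
    exact Nat.lt_of_mul_lt_mul_left this
  obtain ⟨M, hM, hMA⟩ := C.exists_top_inf (C.A_ab hx) hA
  refine ⟨Quotient.mk'' (⟨M, hM⟩ : C.Tops), hx, ⟨M, hM⟩, rfl, ?_⟩
  have h1 := C.top_inter hM (C.A_ab hx) hMA
  have h2 : Nat.card ↥(M ⊓ C.A x hx) ≤ Nat.card ↥(M ⊓ Subgroup.centralizer {x}) :=
    Nat.card_le_card_of_injective _ (Subgroup.inclusion_injective
      (inf_le_inf le_rfl (C.A_le hx)))
  refine Nat.lt_of_mul_lt_mul_left (a := cR K) (lt_of_le_of_lt ?_
    (hA.trans_le (h1.trans (Nat.mul_le_mul_left _ h2))))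
  rw [← mul_assoc]
  exact Nat.mul_le_mul_right _ (by unfold cT2; omega)

theorem card_centralizer_le_of_assoc {x : G} {c : C.Cls} (h : C.Assoc x c) :
    Nat.card ↥(Subgroup.centralizer ({x} : Set G)) ≤ K * (K * K) * Nat.card ↥(C.H c) := by
  obtain ⟨hx, M, hc, hM⟩ := h
  have a1 := C.assoc_inf_A hx hM
  have hz : Nat.card ↥C.Z ≤ (cR K * cR K + 1) * Nat.card ↥C.Z :=
    Nat.le_mul_of_pos_left _ (by omega)
  calc _ ≤ K * Nat.card ↥(C.A x hx) := C.card_centralizer_le hx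
    _ ≤ K * (K * K * Nat.card ↥M.1) := Nat.mul_le_mul_left _
        (M.2.2.2 _ (C.A_ab hx) (C.not_le_Z_of_card (lt_of_le_of_lt hz a1)))
    _ ≤ K * (K * K * Nat.card ↥(C.H c)) := by
        refine Nat.mul_le_mul_left _ (Nat.mul_le_mul_left _ ?_)
        exact Nat.card_le_card_of_injective _
          (Subgroup.inclusion_injective fun g hg => C.mem_H_of_mem hc hg)
    _ = _ := by ring

theorem card_inf_centralizer_le_of_not_assoc {x : G} (hx : x ∉ C.Z) {c : C.Cls}
    (h : ¬ C.Assoc x c) :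
    Nat.card ↥(C.H c ⊓ Subgroup.centralizer {x}) ≤ cC0 n K * cT1 K * Nat.card ↥C.Z := by
  have hM : Nat.card ↥((C.rep c).1 ⊓ Subgroup.centralizer {x}) ≤ cT1 K * Nat.card ↥C.Z := by
    by_contra hc
    exact h ⟨hx, C.rep c, C.mk_rep c, not_le.mp hc⟩
  have hle : (C.rep c).1 ≤ C.H c := fun g hg => C.mem_H_of_mem (C.mk_rep c) hg
  have h1 := card_mul_card_le (A := (C.rep c).1) (B := C.H c ⊓ Subgroup.centralizer {x}) hle
    inf_le_left
  have h2 : Nat.card ↥((C.rep c).1 ⊓ (C.H c ⊓ Subgroup.centralizer {x})) ≤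
      Nat.card ↥((C.rep c).1 ⊓ Subgroup.centralizer {x}) :=
    Nat.card_le_card_of_injective _ (Subgroup.inclusion_injective
      (inf_le_inf le_rfl inf_le_right))
  refine Nat.le_of_mul_le_mul_left ?_ (Nat.card_pos (α := ↥(C.rep c).1))
  calc _ ≤ _ := h1
    _ ≤ cT1 K * Nat.card ↥C.Z * (cC0 n K * Nat.card ↥(C.rep c).1) :=
        Nat.mul_le_mul (h2.trans hM) (C.card_H_le c)
    _ = _ := by ring

end Ctx

end CfsgLib.ModularJordan
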