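/-
Jordan's counting argument: the group has an admissible abelian subgroup of bounded index.
-/
import Cfsg.Agent.Lib.ModularJordan.Tops

set_option autoImplicit false
set_option linter.unusedSectionVars false

open scoped Pointwise

namespace CfsgLib.ModularJordan

namespace Ctx

variable {G : Type*} [Group G] [Finite G] {n K : ℕ} (C : Ctx G n K)

/-- Conjugation composed with translation by the central subgroup. -/
@[reducible] def twistAction (H : Subgroup G) (S : Set G)
    (hconj : ∀ x ∈ S, ∀ h ∈ H, h * x * h⁻¹ ∈ S) (hmul : ∀ x ∈ S, ∀ ζ ∈ C.Z, x * ζ ∈ S) :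
    MulAction (↥H × ↥C.Z) ↥S where
  smul p x := ⟨(p.1 : G) * (x : G) * (p.1 : G)⁻¹ * (p.2 : G),
    hmul _ (hconj _ x.2 _ p.1.2) _ p.2.2⟩
  one_smul x := Subtype.ext (by
    show ((1 : ↥H) : G) * (x : G) * ((1 : ↥H) : G)⁻¹ * ((1 : ↥C.Z) : G) = x
    simp)
  mul_smul p q x := Subtype.ext (by
    show ((p.1 * q.1 : ↥H) : G) * (x : G) * ((p.1 * q.1 : ↥H) : G)⁻¹ * ((p.2 * q.2 : ↥C.Z) : G) =
      (p.1 : G) * ((q.1 : G) * (x : G) * (q.1 : G)⁻¹ * (q.2 : G)) * (p.1 : G)⁻¹ * (p.2 : G)
    have e2 := C.central _ q.2.2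
    push_cast
    have h3 : (p.1 : G) * ((q.1 : G) * (x : G) * (q.1 : G)⁻¹ * (q.2 : G)) * (p.1 : G)⁻¹
        = (p.1 : G) * (q.1 : G) * (x : G) * (q.1 : G)⁻¹ * (p.1 : G)⁻¹ * (q.2 : G) := by
      calc _ = (p.1 : G) * (q.1 : G) * (x : G) * (q.1 : G)⁻¹ * ((q.2 : G) * (p.1 : G)⁻¹) := by group
        _ = (p.1 : G) * (q.1 : G) * (x : G) * (q.1 : G)⁻¹ * ((p.1 : G)⁻¹ * (q.2 : G)) := by
          rw [← e2 (p.1 : G)⁻¹]
        _ = _ := by group
    rw [h3, ← C.central _ p.2.2 (q.2 : G)]
    group)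

theorem exists_count {H : Subgroup G} (hZH : C.Z ≤ H) (S : Set G)
    (hSH : S ⊆ H) (hconj : ∀ x ∈ S, ∀ h ∈ H, h * x * h⁻¹ ∈ S)
    (hmul : ∀ x ∈ S, ∀ ζ ∈ C.Z, x * ζ ∈ S) (B : ℕ)
    (hB : ∀ x ∈ S, Nat.card ↥(H ⊓ Subgroup.centralizer {x}) ≤ B * Nat.card ↥C.Z) :
    ∃ k : ℕ, S.ncard * (n * B).factorial = k * Nat.card ↥H := by
  classical
  letI := C.twistAction H S hconj hmul
  haveI : Fintype ↥S := Fintype.ofFinite _
  haveI := Fintype.ofFinite (MulAction.orbitRel.Quotient (↥H × ↥C.Z) ↥S)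
  have key : ∀ x : ↥S, Nat.card ↥H ∣ Nat.card ↥(MulAction.orbit (↥H × ↥C.Z) x) * (n * B).factorial := by
    intro x
    set T := MulAction.stabilizer (↥H × ↥C.Z) x with hT
    have hmem : ∀ p : ↥H × ↥C.Z, p ∈ T → (p.1 : G) * (x : G) * (p.1 : G)⁻¹ * (p.2 : G) = (x : G) :=
      fun p hp => congrArg Subtype.val (MulAction.mem_stabilizer_iff.mp hp)
    have hsnd : ∀ p : ↥H × ↥C.Z, p ∈ T → (p.1 : G) * (x : G) * (p.1 : G)⁻¹ = (x : G) * (p.2 : G)⁻¹ :=
      fun p hp => eq_mul_inv_of_mul_eq (hmem p hp)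
    have hle : Nat.card ↥T ≤ n * B * Nat.card ↥C.Z := by
      haveI := Fintype.ofFinite ↥T
      let s : Finset ↥T := Finset.univ
      have himg : (s.image fun p : ↥T => ((p.1.2 : G))⁻¹).card ≤ n := by
        rw [← Set.ncard_coe_finset]
        refine le_trans (Set.ncard_le_ncard ?_ (Set.toFinite _)) (C.scal (x : G))
        intro b hb
        simp only [Finset.coe_image, Set.mem_image] at hb
        obtain ⟨p, -, rfl⟩ := hb
        exact ⟨C.Z.inv_mem p.1.2.2, (p.1.1 : G), hsnd p.1 p.2⟩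
      have hfib : ∀ b ∈ s.image (fun p : ↥T => ((p.1.2 : G))⁻¹),
          (s.filter fun p : ↥T => ((p.1.2 : G))⁻¹ = b).card ≤
            Nat.card ↥(H ⊓ Subgroup.centralizer {(x : G)}) := by
        intro b hb
        obtain ⟨p0, -, rfl⟩ := Finset.mem_image.mp hb
        rw [← Nat.card_eq_finsetCard]
        refine Nat.card_le_card_of_injective
          (fun p => ⟨(p0.1.1 : G)⁻¹ * (p.1.1.1 : G),
            H.mul_mem (H.inv_mem p0.1.1.2) p.1.1.1.2, ?_⟩) ?_
        · show _ ∈ Subgroup.centralizer {(x : G)}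
          rw [Subgroup.mem_centralizer_singleton_iff]
          have e1 := hsnd p.1.1 p.1.2
          have e2 := hsnd p0.1 p0.2
          rw [(Finset.mem_filter.mp p.2).2, ← e2] at e1
          calc (p0.1.1 : G)⁻¹ * (p.1.1.1 : G) * (x : G)
              = (p0.1.1 : G)⁻¹ * ((p.1.1.1 : G) * (x : G) * (p.1.1.1 : G)⁻¹) * (p.1.1.1 : G) := by
                group
            _ = (p0.1.1 : G)⁻¹ * ((p0.1.1 : G) * (x : G) * (p0.1.1 : G)⁻¹) * (p.1.1.1 : G) := by
                rw [e1]
            _ = _ := by group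
        · intro p q e
          have e' : (p.1.1.1 : G) = (q.1.1.1 : G) :=
            mul_left_cancel (Subtype.ext_iff.mp e)
          refine Subtype.ext (Subtype.ext (Prod.ext (Subtype.ext e') (Subtype.ext ?_)))
          exact inv_injective ((Finset.mem_filter.mp p.2).2.trans (Finset.mem_filter.mp q.2).2.symm)
      calc Nat.card ↥T = s.card := Nat.card_eq_fintype_card
        _ ≤ Nat.card ↥(H ⊓ Subgroup.centralizer {(x : G)}) * (s.image fun p : ↥T => ((p.1.2 : G))⁻¹).card :=
            Finset.card_le_mul_card_image s _ hfib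
        _ ≤ B * Nat.card ↥C.Z * n := Nat.mul_le_mul (hB _ x.2) himg
        _ = _ := by ring
    have hdvd : Nat.card ↥C.Z ∣ Nat.card ↥T := by
      let f : ↥C.Z →* ↥H × ↥C.Z := (Subgroup.inclusion hZH).prod 1
      have hf : f.range ≤ T := by
        rintro _ ⟨ζ, rfl⟩
        refine MulAction.mem_stabilizer_iff.mpr (Subtype.ext ?_)
        show (ζ : G) * (x : G) * (ζ : G)⁻¹ * ((1 : ↥C.Z) : G) = x
        rw [← C.central _ ζ.2 (x : G)]
        simp
      have hfi : Function.Injective f := fun a b e =>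
        Subgroup.inclusion_injective hZH (congrArg Prod.fst e)
      rw [Nat.card_congr (MonoidHom.ofInjective hfi).toEquiv]
      exact Subgroup.card_dvd_of_le hf
    obtain ⟨i, hi⟩ := hdvd
    have hi0 : 0 < i := by
      rcases Nat.eq_zero_or_pos i with rfl | h
      · exact absurd hi (by simpa using Nat.card_pos.ne')
      · exact h
    have hib : i ≤ n * B := Nat.le_of_mul_le_mul_left
      (by rw [← hi]; exact hle.trans_eq (mul_comm _ _)) Nat.card_pos
    have horb : Nat.card ↥(MulAction.orbit (↥H × ↥C.Z) x) * i = Nat.card ↥H := by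
      have h1 : Nat.card ↥(MulAction.orbit (↥H × ↥C.Z) x) * Nat.card ↥T
          = Nat.card (↥H × ↥C.Z) := by
        haveI := Fintype.ofFinite (↥H × ↥C.Z)
        haveI := Fintype.ofFinite ↥(MulAction.orbit (↥H × ↥C.Z) x)
        haveI := Fintype.ofFinite ↥T
        rw [Nat.card_eq_fintype_card, Nat.card_eq_fintype_card, Nat.card_eq_fintype_card]
        exact MulAction.card_orbit_mul_card_stabilizer_eq_card_group _ x
      rw [hi, Nat.card_prod, mul_comm (Nat.card ↥C.Z) i, ← mul_assoc] at h1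
      exact Nat.eq_of_mul_eq_mul_right Nat.card_pos h1
    obtain ⟨j, hj⟩ := Nat.dvd_factorial hi0 hib
    exact ⟨j, by rw [hj, ← mul_assoc, horb]⟩
  have hsum : S.ncard = ∑ ω : MulAction.orbitRel.Quotient (↥H × ↥C.Z) ↥S,
      Nat.card ↥ω.orbit := by
    rw [← Nat.card_coe_set_eq, Nat.card_congr (MulAction.selfEquivSigmaOrbits' (↥H × ↥C.Z) ↥S),
      Nat.card_sigma]
  obtain ⟨k, hk⟩ : Nat.card ↥H ∣ S.ncard * (n * B).factorial := by
    rw [hsum, Finset.sum_mul]
    refine Finset.dvd_sum fun ω _ => ?_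
    rw [MulAction.orbitRel.Quotient.orbit_eq_orbit_out ω Quotient.out_eq']
    exact key _
  exact ⟨k, by rw [hk, mul_comm]⟩

/-- Elements associated with a class. -/
def assocSet (c : C.Cls) : Set G := {x | C.Assoc x c}

theorem card_H_smul (g : G) (c : C.Cls) : Nat.card ↥(C.H (g • c)) = Nat.card ↥(C.H c) := by
  rw [H, MulAction.stabilizer_smul_eq_stabilizer_map_conj]
  exact Nat.card_congr ((Subgroup.equivMapOfInjective _ _ (MulAut.conj g).injective).toEquiv.symm)

theorem ncard_assocSet_smul (g : G) (c : C.Cls) :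
    (C.assocSet (g • c)).ncard = (C.assocSet c).ncard := by
  have : C.assocSet (g • c) = (fun x => g * x * g⁻¹) '' C.assocSet c := by
    ext y
    constructor
    · intro hy
      refine ⟨g⁻¹ * y * g, ?_, by group⟩
      have := C.assoc_conj hy g⁻¹
      rwa [inv_smul_smul, inv_inv] at this
    · rintro ⟨x, hx, rfl⟩
      exact C.assoc_conj hx g
  rw [this, Set.ncard_image_of_injective]
  intro a b e
  exact mul_left_cancel (mul_right_cancel e)

theorem sum_cls [Fintype C.Cls] [Fintype (MulAction.orbitRel.Quotient G C.Cls)]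
    (f : C.Cls → ℚ) (hf : ∀ (g : G) (c : C.Cls), f (g • c) = f c) :
    ∑ c, f c = ∑ o : MulAction.orbitRel.Quotient G C.Cls,
      (Nat.card G : ℚ) / (Nat.card ↥(C.H o.out)) * f o.out := by
  classical
  haveI : ∀ o : MulAction.orbitRel.Quotient G C.Cls, Fintype ↥o.orbit := fun o => Fintype.ofFinite _
  rw [← (MulAction.selfEquivSigmaOrbits' G C.Cls).symm.sum_comp f, Fintype.sum_sigma]
  refine Finset.sum_congr rfl fun o _ => ?_
  have horbit : o.orbit = MulAction.orbit G o.out :=
    MulAction.orbitRel.Quotient.orbit_eq_orbit_out o Quotient.out_eq'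
  have hconst : ∀ c : ↥o.orbit, f ((MulAction.selfEquivSigmaOrbits' G C.Cls).symm ⟨o, c⟩) = f o.out := by
    intro c
    have hc : (c : C.Cls) ∈ MulAction.orbit G o.out := horbit ▸ c.2
    obtain ⟨g, hg⟩ := MulAction.mem_orbit_iff.mp hc
    show f (c : C.Cls) = f o.out
    rw [← hg, hf]
  rw [Finset.sum_congr rfl fun c _ => hconst c, Finset.sum_const, Finset.card_univ, nsmul_eq_mul]
  congr 1
  rw [eq_div_iff (by exact_mod_cast Nat.card_pos.ne'), ← Nat.cast_mul]
  norm_cast
  rw [← Nat.card_eq_fintype_card, show Nat.card ↥o.orbit = Nat.card ↥(MulAction.orbit G o.out) by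
    rw [horbit]]
  haveI := Fintype.ofFinite G
  haveI := Fintype.ofFinite ↥(MulAction.orbit G o.out)
  haveI := Fintype.ofFinite ↥(MulAction.stabilizer G o.out)
  rw [Nat.card_eq_fintype_card, Nat.card_eq_fintype_card, Nat.card_eq_fintype_card]
  exact MulAction.card_orbit_mul_card_stabilizer_eq_card_group G o.out

/-- A class is large at a threshold. -/
def Large (T : ℕ) (c : C.Cls) : Prop := T * Nat.card ↥C.Z < Nat.card ↥(C.H c)

theorem large_smul (T : ℕ) (g : G) (c : C.Cls) : C.Large T (g • c) ↔ C.Large T c := by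
  rw [Large, Large, card_H_smul]

end Ctx

/-- The centralizer bound at a threshold. -/
def cB (n K T : ℕ) : ℕ := K * cT2 n K + K * (K * K) * T + cC0 n K * cT1 K
/-- The common denominator at a threshold. -/
def cQ (n K T : ℕ) : ℕ := (n * cB n K T).factorial
/-- The next threshold. -/
def cNext (n K T : ℕ) : ℕ := cQ n K T * (2 * cC0 n K + 2) + T

namespace Ctx

variable {G : Type*} [Group G] [Finite G] {n K : ℕ} (C : Ctx G n K)

theorem card_orbits_le [Fintype (MulAction.orbitRel.Quotient G C.Cls)] :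
    Fintype.card (MulAction.orbitRel.Quotient G C.Cls) ≤ 2 * cC0 n K := by
  classical
  haveI := Fintype.ofFinite C.Cls
  have h1 := C.sum_cls (fun c => (Nat.card ↥(C.H c) : ℚ)) fun g c => by rw [card_H_smul]
  have h2 : ∀ o : MulAction.orbitRel.Quotient G C.Cls,
      (Nat.card G : ℚ) / (Nat.card ↥(C.H o.out)) * (Nat.card ↥(C.H o.out) : ℚ) = Nat.card G :=
    fun o => div_mul_cancel₀ _ (by exact_mod_cast Nat.card_pos.ne')
  simp only [h2, Finset.sum_const, Finset.card_univ, nsmul_eq_mul] at h1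
  have h3 : Fintype.card (MulAction.orbitRel.Quotient G C.Cls) * Nat.card G
      = ∑ c, Nat.card ↥(C.H c) := by exact_mod_cast h1.symm
  exact Nat.le_of_mul_le_mul_right (h3.trans_le C.sum_card_H_le) Nat.card_pos

theorem exists_integer_identity (T : ℕ) [Fintype (MulAction.orbitRel.Quotient G C.Cls)]
    [DecidablePred fun o : MulAction.orbitRel.Quotient G C.Cls => C.Large T o.out] :
    ∃ D : ℤ, (D : ℚ) = cQ n K T * (Nat.card ↥C.Z : ℚ) *
      ((∑ o ∈ Finset.univ.filter (fun o : MulAction.orbitRel.Quotient G C.Cls => C.Large T o.out),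
        (1 : ℚ) / Nat.card ↥(C.H o.out)) - 1 / Nat.card G) := by
  classical
  haveI := Fintype.ofFinite C.Cls
  haveI := Fintype.ofFinite G
  set Q := cQ n K T with hQ
  have hz : (0 : ℚ) < Nat.card ↥C.Z := by exact_mod_cast Nat.card_pos
  have hg : (0 : ℚ) < Nat.card G := by exact_mod_cast Nat.card_pos
  -- free elements
  let Free : Set G := {x | x ∉ C.Z ∧ ∀ c, C.Large T c → ¬ C.Assoc x c}
  have hmemZ : ∀ (g x : G), g * x * g⁻¹ ∈ C.Z → x ∈ C.Z := by
    intro g x h
    have := C.central _ h g⁻¹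
    have e : g⁻¹ * (g * x * g⁻¹) = x * g⁻¹ := by group
    rw [e] at this
    have e2 : x = g * x * g⁻¹ := mul_right_cancel this
    rw [e2]
    exact h
  have hmulZ : ∀ x ζ : G, ζ ∈ C.Z → x * ζ ∈ C.Z → x ∈ C.Z := fun x ζ hζ h => by
    simpa using C.Z.mul_mem h (C.Z.inv_mem hζ)
  obtain ⟨k0, hk0⟩ := C.exists_count (H := ⊤) le_top Free (Set.subset_univ _)
    (by
      rintro x ⟨hx, hfree⟩ h -
      refine ⟨fun hh => hx (hmemZ h x hh), fun c hc hass => ?_⟩
      have := C.assoc_conj hass h⁻¹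
      rw [inv_inv, show h⁻¹ * (h * x * h⁻¹) * h = x by group] at this
      exact hfree _ ((C.large_smul T h⁻¹ c).mpr hc) this)
    (by
      rintro x ⟨hx, hfree⟩ ζ hζ
      refine ⟨fun hh => hx (hmulZ x ζ hζ hh), fun c hc hass => ?_⟩
      have := C.assoc_mul_Z hass (C.Z.inv_mem hζ)
      rw [mul_inv_cancel_right] at this
      exact hfree c hc this)
    (cB n K T)
    (by
      rintro x ⟨hx, hfree⟩
      rw [top_inf_eq]
      by_cases hbig : K * cT2 n K * Nat.card ↥C.Z < Nat.card ↥(Subgroup.centralizer ({x} : Set G))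
      · obtain ⟨c, hc⟩ := C.exists_assoc hx hbig
        refine (C.card_centralizer_le_of_assoc hc).trans ?_
        have hsmall : Nat.card ↥(C.H c) ≤ T * Nat.card ↥C.Z := not_lt.mp fun hl => hfree c hl hc
        calc K * (K * K) * Nat.card ↥(C.H c) ≤ K * (K * K) * (T * Nat.card ↥C.Z) :=
              Nat.mul_le_mul_left _ hsmall
          _ ≤ _ := by rw [← mul_assoc]; exact Nat.mul_le_mul_right _ (by unfold cB; omega)
      · exact (not_lt.mp hbig).trans (Nat.mul_le_mul_right _ (by unfold cB; omega)))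
  have hrest : ∀ c : C.Cls, ∃ k : ℕ,
      ({x : G | x ∈ C.H c ∧ x ∉ C.Z ∧ ¬ C.Assoc x c}).ncard * Q = k * Nat.card ↥(C.H c) := by
    intro c
    refine C.exists_count (C.Z_le_H c) _ (fun x hx => hx.1) ?_ ?_ (cB n K T) ?_
    · rintro x ⟨hxH, hx, hass⟩ h hh
      refine ⟨(C.H c).mul_mem ((C.H c).mul_mem hh hxH) ((C.H c).inv_mem hh),
        fun e => hx (hmemZ h x e), fun e => hass ?_⟩
      have := C.assoc_conj e h⁻¹
      rwa [MulAction.mem_stabilizer_iff.mp ((C.H c).inv_mem hh), inv_inv,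
        show h⁻¹ * (h * x * h⁻¹) * h = x by group] at this
    · rintro x ⟨hxH, hx, hass⟩ ζ hζ
      refine ⟨(C.H c).mul_mem hxH (C.Z_le_H c hζ), fun e => hx (hmulZ x ζ hζ e), fun e => hass ?_⟩
      have := C.assoc_mul_Z e (C.Z.inv_mem hζ)
      rwa [mul_inv_cancel_right] at this
    · rintro x ⟨-, hx, hass⟩
      exact (C.card_inf_centralizer_le_of_not_assoc hx hass).trans
        (Nat.mul_le_mul_right _ (by unfold cB; omega))
  choose k hk using hrest
  -- decomposition of each stabilizer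
  have hdec : ∀ c : C.Cls, Nat.card ↥(C.H c) = Nat.card ↥C.Z + (C.assocSet c).ncard +
      ({x : G | x ∈ C.H c ∧ x ∉ C.Z ∧ ¬ C.Assoc x c}).ncard := by
    intro c
    show ((C.H c : Subgroup G) : Set G).ncard = (C.Z : Set G).ncard + _ + _
    rw [← Set.ncard_union_eq, ← Set.ncard_union_eq]
    · congr 1
      ext x
      simp only [Set.mem_union, SetLike.mem_coe, Set.mem_setOf_eq, assocSet]
      constructor
      · intro hx
        by_cases h1 : x ∈ C.Z
        · exact Or.inl (Or.inl h1)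
        · by_cases h2 : C.Assoc x c
          · exact Or.inl (Or.inr h2)
          · exact Or.inr ⟨hx, h1, h2⟩
      · rintro ((h | h) | h)
        exacts [C.Z_le_H c h, C.assoc_mem_H h, h.1]
    · rw [Set.disjoint_left]
      rintro x (h | h) h'
      exacts [h'.2.1 h, h'.2.2 h]
    · rw [Set.disjoint_left]
      exact fun x h h' => h'.1 h
  -- decomposition of the group
  have hG : (Nat.card G : ℚ) = Nat.card ↥C.Z + Free.ncard +
      ∑ c : C.Cls, if C.Large T c then ((C.assocSet c).ncard : ℚ) else 0 := by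
    have e1 : Nat.card G = Nat.card ↥C.Z + Free.ncard +
        ∑ c ∈ Finset.univ.filter (fun c : C.Cls => C.Large T c), (C.assocSet c).ncard := by
      have hsplit : (Set.univ : Set G) = (C.Z : Set G) ∪ Free ∪
          ⋃ c ∈ Finset.univ.filter (fun c : C.Cls => C.Large T c), C.assocSet c := by
        ext x
        simp only [Set.mem_univ, true_iff, Set.mem_union, Set.mem_iUnion, Finset.mem_filter,
          Finset.mem_univ, true_and, exists_prop]
        by_cases h1 : x ∈ C.Z
        · exact Or.inl (Or.inl h1)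
        · by_cases h2 : ∃ c, C.Large T c ∧ C.Assoc x c
          · obtain ⟨c, hc, hc'⟩ := h2
            exact Or.inr ⟨c, hc, hc'⟩
          · exact Or.inl (Or.inr ⟨h1, fun c hc hc' => h2 ⟨c, hc, hc'⟩⟩)
      rw [← Set.ncard_univ, hsplit, Set.ncard_union_eq, Set.ncard_union_eq]
      · congr 1
        refine ((Finset.finite_toSet _).ncard_biUnion (fun _ _ => Set.toFinite _) ?_).trans
          (finsum_mem_coe_finset _ _)
        intro a _ b _ hab
        exact Set.disjoint_left.mpr fun x hxa hxb => hab (C.assoc_unique hxa hxb)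
      · exact Set.disjoint_left.mpr fun x h h' => h'.1 h
      · rw [Set.disjoint_left]
        rintro x h hu
        simp only [Set.mem_iUnion, Finset.mem_filter, Finset.mem_univ, true_and, exists_prop] at hu
        obtain ⟨c, hc, hc'⟩ := hu
        rcases h with h | h
        exacts [hc'.1 h, h.2 c hc hc']
    rw [e1, ← Finset.sum_filter]
    push_cast
    rfl
  rw [C.sum_cls (fun c => if C.Large T c then ((C.assocSet c).ncard : ℚ) else 0)
    (fun g c => by simp only [large_smul, ncard_assocSet_smul])] at hG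
  set L := Finset.univ.filter (fun o : MulAction.orbitRel.Quotient G C.Cls => C.Large T o.out)
  refine ⟨(k0 : ℤ) + L.card * Q - (∑ o ∈ L, (k o.out : ℤ)) - Q, ?_⟩
  have hterm : ∀ o : MulAction.orbitRel.Quotient G C.Cls,
      (Nat.card G : ℚ) / (Nat.card ↥(C.H o.out)) * ((C.assocSet o.out).ncard : ℚ) * Q
        = Nat.card G * ((Q : ℚ) - k o.out - Q * Nat.card ↥C.Z * (1 / Nat.card ↥(C.H o.out))) := by
    intro o
    have hh : (0 : ℚ) < Nat.card ↥(C.H o.out) := by exact_mod_cast Nat.card_pos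
    have e1 : (Nat.card ↥(C.H o.out) : ℚ) = Nat.card ↥C.Z + (C.assocSet o.out).ncard +
      ({x : G | x ∈ C.H o.out ∧ x ∉ C.Z ∧ ¬ C.Assoc x o.out}).ncard := by exact_mod_cast hdec o.out
    have e2 : (({x : G | x ∈ C.H o.out ∧ x ∉ C.Z ∧ ¬ C.Assoc x o.out}).ncard : ℚ) * Q
        = k o.out * Nat.card ↥(C.H o.out) := by exact_mod_cast hk o.out
    field_simp
    linear_combination (-(Q : ℚ)) * e1 - e2
  have hk0' : (Free.ncard : ℚ) * Q = k0 * Nat.card G := by
    rw [hQ, cQ]
    rw [Subgroup.card_top] at hk0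
    exact_mod_cast hk0
  have hG2 := congrArg (fun t : ℚ => t * Q) hG
  simp only [add_mul, Finset.sum_mul, hk0', mul_ite, mul_zero, ite_mul, zero_mul, hterm] at hG2
  rw [← Finset.sum_filter, ← Finset.mul_sum, Finset.sum_sub_distrib, Finset.sum_sub_distrib,
    Finset.sum_const, nsmul_eq_mul, ← Finset.mul_sum] at hG2
  push_cast
  field_simp at hG2 ⊢
  linear_combination (-1 : ℚ) * hG2

end Ctx

/-- The index bound, by recursion on the number of large class orbits. -/
def cBd (n K : ℕ) : ℕ → ℕ → ℕ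
  | 0, T => cNext n K T + cC0 n K
  | d + 1, T => cNext n K T + cC0 n K + cBd n K d (cNext n K T)

theorem cNext_le_cBd (n K : ℕ) : ∀ d T, cNext n K T + cC0 n K ≤ cBd n K d T
  | 0, _ => le_rfl
  | _ + 1, _ => Nat.le_add_right _ _

namespace Ctx

variable {G : Type*} [Group G] [Finite G] {n K : ℕ} (C : Ctx G n K)

set_option maxHeartbeats 1000000 in
theorem exists_ab_of_few_large [Fintype (MulAction.orbitRel.Quotient G C.Cls)] :
    ∀ (d T : ℕ) [DecidablePred fun o : MulAction.orbitRel.Quotient G C.Cls => C.Large T o.out],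
      (Finset.univ.filter
        (fun o : MulAction.orbitRel.Quotient G C.Cls => C.Large T o.out)).card ≤ d →
      ∃ A, C.Ab A ∧ Nat.card G ≤ cBd n K d T * Nat.card ↥A := by
  classical
  intro d
  induction d using Nat.strong_induction_on with
  | _ d ih =>
    intro T _ hd
    set T' := cNext n K T with hT'
    set L := Finset.univ.filter (fun o : MulAction.orbitRel.Quotient G C.Cls => C.Large T o.out)
      with hL
    by_cases hsmallG : Nat.card G ≤ T' * Nat.card ↥C.Z
    · exact ⟨C.Z, C.base, hsmallG.trans (Nat.mul_le_mul_right _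
        (le_trans (Nat.le_add_right _ _) (cNext_le_cBd n K d T)))⟩
    by_cases hgap : ∀ o ∈ L, C.Large T' o.out
    · obtain ⟨D, hD⟩ := C.exists_integer_identity T
      rw [← hL] at hD
      have hz : (0 : ℚ) < Nat.card ↥C.Z := by exact_mod_cast Nat.card_pos
      have hg : (0 : ℚ) < Nat.card G := by exact_mod_cast Nat.card_pos
      have hT0 : (0 : ℚ) < T' := by
        have : 0 < cNext n K T := by
          unfold cNext cQ
          have := Nat.factorial_pos (n * cB n K T)
          positivity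
        rw [hT']; exact_mod_cast this
      have hgz : (Nat.card ↥C.Z : ℚ) / Nat.card G < 1 / T' := by
        rw [div_lt_div_iff₀ hg hT0, one_mul, mul_comm]
        exact_mod_cast not_le.mp hsmallG
      have hoz : ∀ o ∈ L, (Nat.card ↥C.Z : ℚ) / Nat.card ↥(C.H o.out) ≤ 1 / T' := by
        intro o ho
        rw [div_le_div_iff₀ (by exact_mod_cast Nat.card_pos) hT0, one_mul, mul_comm]
        exact_mod_cast (hgap o ho).le
      have hr : (L.card : ℚ) + 1 ≤ 2 * cC0 n K + 1 := by
        have h5 : L.card ≤ 2 * cC0 n K :=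
          le_trans (Finset.card_le_univ _) C.card_orbits_le
        have h6 : (L.card : ℚ) ≤ (2 * cC0 n K : ℕ) := by exact_mod_cast h5
        push_cast at h6
        linarith
      have hQT : (cQ n K T : ℚ) * (2 * cC0 n K + 1) * (1 / T') < 1 := by
        rw [mul_one_div, div_lt_one hT0, hT', cNext]
        have : (0 : ℚ) < cQ n K T := by exact_mod_cast Nat.factorial_pos _
        push_cast
        nlinarith
      have hQ0 : (0 : ℚ) ≤ cQ n K T := by positivity
      have hexp : (D : ℚ) = cQ n K T * ((∑ o ∈ L, (Nat.card ↥C.Z : ℚ) / Nat.card ↥(C.H o.out))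
          - (Nat.card ↥C.Z : ℚ) / Nat.card G) := by
        rw [hD, mul_assoc, mul_sub, Finset.mul_sum, ← mul_div_assoc, mul_one]
        simp only [← mul_div_assoc, mul_one]
      have hs1 : (∑ o ∈ L, (Nat.card ↥C.Z : ℚ) / Nat.card ↥(C.H o.out)) ≤ L.card * (1 / T') := by
        rw [← nsmul_eq_mul]
        exact Finset.sum_le_card_nsmul _ _ _ hoz
      have hs0 : (0 : ℚ) ≤ ∑ o ∈ L, (Nat.card ↥C.Z : ℚ) / Nat.card ↥(C.H o.out) :=
        Finset.sum_nonneg fun _ _ => by positivity
      have hT1 : (0 : ℚ) < 1 / T' := by positivity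
      have hgz0 : (0 : ℚ) < (Nat.card ↥C.Z : ℚ) / Nat.card G := by positivity
      have hD1 : (D : ℚ) < 1 := by
        rw [hexp]
        have : (L.card : ℚ) * (1 / T') ≤ (2 * cC0 n K + 1) * (1 / T') := by gcongr; linarith
        nlinarith
      have hD2 : (-1 : ℚ) < D := by
        rw [hexp]
        have : (1 : ℚ) / T' ≤ (2 * cC0 n K + 1) * (1 / T') := by
          refine le_mul_of_one_le_left hT1.le ?_
          have : (0 : ℚ) ≤ cC0 n K := by positivity
          linarith
        nlinarith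
      have hD0 : D = 0 := by
        have a1 : D < 1 := by exact_mod_cast hD1
        have a2 : -1 < D := by exact_mod_cast hD2
        omega
      rw [hD0, Int.cast_zero] at hD
      have hQ1 : (cQ n K T : ℚ) ≠ 0 := by exact_mod_cast (Nat.factorial_pos _).ne'
      have heq : ∑ o ∈ L, (1 : ℚ) / Nat.card ↥(C.H o.out) = 1 / Nat.card G := by
        have := hD.symm
        simp only [mul_eq_zero, hQ1, hz.ne', false_or] at this
        linarith
      have hne : L.Nonempty := by
        rw [Finset.nonempty_iff_ne_empty]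
        intro h0
        rw [h0, Finset.sum_empty] at heq
        have : (0 : ℚ) < 1 / Nat.card G := by positivity
        linarith
      obtain ⟨o, ho⟩ := hne
      have hnn : ∀ q ∈ L, (0 : ℚ) ≤ 1 / Nat.card ↥(C.H q.out) := fun q _ =>
        div_nonneg zero_le_one (Nat.cast_nonneg _)
      have hle : (1 : ℚ) / Nat.card ↥(C.H o.out) ≤ 1 / Nat.card G :=
        (Finset.single_le_sum hnn ho).trans_eq heq
      rw [div_le_div_iff₀ (by exact_mod_cast Nat.card_pos) hg, one_mul, one_mul] at hle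
      refine ⟨(C.rep o.out).1, (C.rep o.out).2.1, ?_⟩
      calc Nat.card G ≤ Nat.card ↥(C.H o.out) := by exact_mod_cast hle
        _ ≤ cC0 n K * Nat.card ↥(C.rep o.out).1 := C.card_H_le _
        _ ≤ _ := Nat.mul_le_mul_right _ (le_trans (Nat.le_add_left _ _) (cNext_le_cBd n K d T))
    · push Not at hgap
      obtain ⟨o, ho, hno⟩ := hgap
      have hTT : T ≤ T' := Nat.le_add_left _ _
      have hlt : (Finset.univ.filter
          (fun o : MulAction.orbitRel.Quotient G C.Cls => C.Large T' o.out)).card < L.card := by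
        refine Finset.card_lt_card ⟨fun q hq => ?_, fun hsub => hno (by simpa using hsub ho)⟩
        simp only [Finset.mem_filter, Finset.mem_univ, true_and, hL] at hq ⊢
        exact lt_of_le_of_lt (Nat.mul_le_mul_right _ hTT) hq
      obtain _ | d := d
      · omega
      · obtain ⟨A, hA, hA'⟩ := ih d (Nat.lt_succ_self d) T' (by omega)
        exact ⟨A, hA, hA'.trans (Nat.mul_le_mul_right _ (Nat.le_add_left _ _))⟩

/-- The index bound. -/
theorem exists_bounded_index : ∃ A, C.Ab A ∧ A.index ≤ cBd n K (2 * cC0 n K) 0 := by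
  classical
  haveI := Fintype.ofFinite (MulAction.orbitRel.Quotient G C.Cls)
  obtain ⟨A, hA, hA'⟩ := C.exists_ab_of_few_large (2 * cC0 n K) 0
    (le_trans (Finset.card_le_univ _) C.card_orbits_le)
  refine ⟨A, hA, ?_⟩
  rw [← A.index_mul_card] at hA'
  exact Nat.le_of_mul_le_mul_right hA' Nat.card_pos

end Ctx

end CfsgLib.ModularJordan
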