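/-
Weights of commutative groups of semisimple operators, and the reduction at an invariant subspace.
-/
import Mathlib

set_option autoImplicit false
set_option linter.unusedSectionVars false
set_option linter.style.haveILetI false

namespace CfsgLib.ModularJordan

open Module

/-- No nontrivial element of the subgroup is killed by `p`. -/
def PFree {G : Type*} [Group G] (p : ℕ) (A : Subgroup G) : Prop := ∀ a ∈ A, a ^ p = 1 → a = 1

section Group

variable {G : Type*} [Group G] [Finite G] {p : ℕ} [Fact p.Prime]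

theorem PFree.coprime_card {A : Subgroup G} (h : PFree p A) : (Nat.card ↥A).Coprime p := by
  rw [Nat.coprime_comm, (Fact.out : p.Prime).coprime_iff_not_dvd]
  intro hd
  obtain ⟨a, ha⟩ := exists_prime_orderOf_dvd_card' p hd
  have h1 := pow_orderOf_eq_one a
  rw [ha] at h1
  have h2 : (a : G) = 1 := h a a.2 (by exact_mod_cast congrArg Subtype.val h1)
  rw [show a = 1 from Subtype.ext h2, orderOf_one] at ha
  exact (Fact.out : p.Prime).one_lt.ne ha

theorem PFree.not_dvd_orderOf {A : Subgroup G} (h : PFree p A) {a : G} (ha : a ∈ A) :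
    ¬ p ∣ orderOf a := by
  intro hd
  have h2 : orderOf a ∣ Nat.card ↥A := by
    have := orderOf_dvd_natCard (⟨a, ha⟩ : ↥A)
    rwa [Subgroup.orderOf_mk] at this
  exact (Fact.out : p.Prime).one_lt.ne'
    ((h.coprime_card.symm).eq_one_of_dvd (hd.trans h2))

/-- An element of a product of commuting `p`-free subgroups inside an abelian group. -/
theorem PFree.sup_central {A Z : Subgroup G} (hA : PFree p A) (hZ : PFree p Z)
    (hcent : ∀ ζ ∈ Z, ∀ g : G, g * ζ = ζ * g) : PFree p (A ⊔ Z) := by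
  intro x hx hp
  haveI : Z.Normal := ⟨fun ζ hζ g => by rw [hcent ζ hζ g, mul_inv_cancel_right]; exact hζ⟩
  obtain ⟨a, ha, ζ, hζ, rfl⟩ := (Subgroup.mem_sup_of_normal_right.mp hx)
  have h1 : a ^ p * ζ ^ p = 1 := by rw [← (Commute.mul_pow (hcent ζ hζ a) p)]; exact hp
  set k := Nat.card ↥A
  have hk : a ^ k = 1 := by
    have := congrArg Subtype.val (pow_card_eq_one' (x := (⟨a, ha⟩ : ↥A)))
    rwa [SubmonoidClass.coe_pow] at this
  have h2 : ζ ^ (p * k) = 1 := by
    have e : ζ ^ p = (a ^ p)⁻¹ := eq_inv_of_mul_eq_one_right h1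
    rw [pow_mul, e, inv_pow, ← pow_mul, mul_comm p k, pow_mul, hk, one_pow, inv_one]
  have h3 : ζ ^ k = 1 := hZ _ (Z.pow_mem hζ _) (by rw [← pow_mul, mul_comm, h2])
  -- `x ^ k = 1` and `x ^ p = 1`
  have hxk : (a * ζ) ^ k = 1 := by
    rw [Commute.mul_pow (hcent ζ hζ a), hk, h3, one_mul]
  have h4 : (a * ζ) ^ p.gcd k = 1 := pow_gcd_eq_one.mpr ⟨hp, hxk⟩
  rwa [(hA.coprime_card.symm : p.Coprime k).gcd_eq_one, pow_one] at h4

end Group

section Linear

variable {G : Type*} [Group G] [Finite G] {p : ℕ} [Fact p.Prime]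
variable {F : Type*} [Field F] [CharP F p] {V : Type*} [AddCommGroup V] [Module F V]
  [FiniteDimensional F V]

/-- The eigenvalues of an operator are at most as many as the dimension. -/
theorem ncard_hasEigenvalue_le (f : End F V) :
    {μ : F | f.HasEigenvalue μ}.Finite ∧ {μ : F | f.HasEigenvalue μ}.ncard ≤ finrank F V := by
  have hfin : {μ : F | f.HasEigenvalue μ}.Finite := f.finite_hasEigenvalue
  refine ⟨hfin, ?_⟩
  haveI := hfin.fintype
  haveI : Fintype {μ : F // f.eigenspace μ ≠ ⊥} :=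
    Fintype.ofEquiv _ (Equiv.subtypeEquivRight fun μ => Iff.rfl : {μ : F | f.HasEigenvalue μ} ≃ _)
  have h := f.eigenspaces_iSupIndep.subtype_ne_bot_le_finrank
  rw [← Nat.card_coe_set_eq]
  refine le_trans (le_of_eq ?_) h
  rw [← Nat.card_eq_fintype_card]
  exact Nat.card_congr (Equiv.subtypeEquivRight fun μ => Iff.rfl)

variable (ρ : G →* End F V)

theorem hasEigenvalue_ne_zero {g : G} {μ : F} (h : (ρ g).HasEigenvalue μ) : μ ≠ 0 := by
  rintro rfl
  obtain ⟨v, hv⟩ := h.exists_hasEigenvector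
  have h1 : ρ g v = 0 := by rw [hv.apply_eq_smul, zero_smul]
  have h2 : ρ g⁻¹ (ρ g v) = v := by
    rw [← Module.End.mul_apply, ← map_mul, inv_mul_cancel, map_one, Module.End.one_apply]
  rw [h1, map_zero] at h2
  exact hv.2 h2.symm

theorem hasEigenvalue_conj {g h : G} {μ : F} (hμ : (ρ g).HasEigenvalue μ) :
    (ρ (h * g * h⁻¹)).HasEigenvalue μ := by
  obtain ⟨v, hv⟩ := hμ.exists_hasEigenvector
  refine Module.End.hasEigenvalue_of_hasEigenvector (x := ρ h v) ⟨?_, fun h0 => hv.2 ?_⟩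
  · rw [Module.End.mem_eigenspace_iff]
    have : ρ h⁻¹ (ρ h v) = v := by
      rw [← Module.End.mul_apply, ← map_mul, inv_mul_cancel, map_one, Module.End.one_apply]
    rw [map_mul, map_mul, Module.End.mul_apply, Module.End.mul_apply, this, hv.apply_eq_smul,
      map_smul]
  · have := congrArg (ρ h⁻¹) h0
    rwa [← Module.End.mul_apply, ← map_mul, inv_mul_cancel, map_one, Module.End.one_apply,
      map_zero] at this

/-- The scalar subgroup. -/
def scalarSubgroup : Subgroup G where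
  carrier := {g | ∃ μ : F, ρ g = μ • (1 : End F V)}
  one_mem' := ⟨1, by rw [map_one, one_smul]⟩
  mul_mem' := by
    rintro a b ⟨μ, hμ⟩ ⟨ν, hν⟩
    exact ⟨μ * ν, by rw [map_mul, hμ, hν, smul_mul_smul_comm, one_mul]⟩
  inv_mem' := by
    rintro a ⟨μ, hμ⟩
    have hn : 0 < orderOf a := orderOf_pos a
    refine ⟨μ ^ (orderOf a - 1), ?_⟩
    have : a⁻¹ = a ^ (orderOf a - 1) := by
      rw [inv_eq_iff_mul_eq_one, ← pow_succ', Nat.sub_add_cancel hn, pow_orderOf_eq_one]
    rw [this, map_pow, hμ, smul_pow, one_pow]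

variable {ρ}

theorem mem_scalarSubgroup {g : G} :
    g ∈ scalarSubgroup ρ ↔ ∃ μ : F, ρ g = μ • (1 : End F V) := Iff.rfl

theorem scalar_central (hinj : Function.Injective ρ) :
    ∀ ζ ∈ scalarSubgroup ρ, ∀ g : G, g * ζ = ζ * g := by
  rintro ζ ⟨μ, hμ⟩ g
  refine hinj ?_
  rw [map_mul, map_mul, hμ, mul_smul_comm, smul_mul_assoc, mul_one, one_mul]

theorem scalar_pfree (hinj : Function.Injective ρ) : PFree p (scalarSubgroup ρ) := by
  rintro a ⟨μ, hμ⟩ hp
  refine hinj ?_
  rw [map_one, hμ]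
  by_cases hV : (1 : End F V) = 0
  · rw [hV, smul_zero]
  have h1 : μ ^ p • (1 : End F V) = (1 : F) • (1 : End F V) := by
    rw [one_smul]
    have := congrArg ρ hp
    rwa [map_pow, hμ, smul_pow, one_pow, map_one] at this
  have h2 : μ ^ p = 1 := smul_left_injective F hV h1
  haveI : ExpChar F p := .prime Fact.out
  have h3 : frobenius F p μ = frobenius F p 1 := by simpa [frobenius_def] using h2
  rw [frobenius_inj F p h3, one_smul]

theorem isSemisimple_of_pfree {A : Subgroup G} (hA : PFree p A) {a : G} (ha : a ∈ A) :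
    (ρ a).IsSemisimple := by
  refine Module.End.isSemisimple_of_squarefree_aeval_eq_zero
    (p := (Polynomial.X ^ orderOf a - 1 : Polynomial F)) ?_ ?_
  · rw [← map_one (Polynomial.C (R := F))]
    refine (Polynomial.separable_X_pow_sub_C (1 : F) (fun h => ?_) one_ne_zero).squarefree
    exact hA.not_dvd_orderOf ha ((CharP.cast_eq_zero_iff F p _).mp h)
  · rw [map_sub, map_pow, Polynomial.aeval_X, map_one, ← map_pow, pow_orderOf_eq_one, map_one,
      sub_self]

/-- The weights of a subgroup. -/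
def weights (ρ : G →* End F V) (A : Subgroup G) : Set (↥A → F) :=
  {χ | (⨅ a : ↥A, (ρ a).eigenspace (χ a)) ≠ ⊥}

theorem weights_spec [IsAlgClosed F] {A : Subgroup G} (hA : PFree p A)
    (hcomm : ∀ a ∈ A, ∀ b ∈ A, a * b = b * a) :
    (weights ρ A).Finite ∧ (weights ρ A).ncard ≤ finrank F V ∧
      (⨆ χ ∈ weights ρ A, ⨅ a : ↥A, (ρ a).eigenspace (χ a)) = ⊤ := by
  let f : ↥A → End F V := fun a => ρ a
  have heq : ∀ (a : ↥A) (μ : F), (f a).maxGenEigenspace μ = (f a).eigenspace μ := fun a μ =>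
    (isSemisimple_of_pfree hA a.2).isFinitelySemisimple.maxGenEigenspace_eq_eigenspace μ
  have hc : Pairwise fun i j => Commute (f i) (f j) := fun i j _ => by
    show ρ i * ρ j = ρ j * ρ i
    rw [← map_mul, ← map_mul, hcomm _ i.2 _ j.2]
  have hall : ∀ i j φ, Set.MapsTo (f i) ((f j).maxGenEigenspace φ) ((f j).maxGenEigenspace φ) :=
    fun i j φ => Module.End.mapsTo_maxGenEigenspace_of_comm
      (show ρ j * ρ i = ρ i * ρ j by rw [← map_mul, ← map_mul, hcomm _ j.2 _ i.2]) φ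
  have hind := Module.End.independent_iInf_maxGenEigenspace_of_forall_mapsTo f hall
  have htop := Module.End.iSup_iInf_maxGenEigenspace_eq_top_of_iSup_maxGenEigenspace_eq_top_of_commute
    f hc fun i => Module.End.iSup_maxGenEigenspace_eq_top _
  simp only [heq] at hind htop
  have hfin : (weights ρ A).Finite :=
    WellFoundedGT.finite_ne_bot_of_iSupIndep hind
  refine ⟨hfin, ?_, ?_⟩
  · haveI := hfin.fintype
    haveI : Fintype {χ : ↥A → F // (⨅ a : ↥A, (f a).eigenspace (χ a)) ≠ ⊥} :=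
      Fintype.ofEquiv _ (Equiv.subtypeEquivRight fun χ => Iff.rfl : weights ρ A ≃ _)
    rw [← Nat.card_coe_set_eq]
    refine le_trans (le_of_eq ?_) hind.subtype_ne_bot_le_finrank
    rw [← Nat.card_eq_fintype_card]
    exact Nat.card_congr (Equiv.subtypeEquivRight fun χ => Iff.rfl)
  · refine top_unique (htop.symm.le.trans (iSup_le fun χ => ?_))
    by_cases h : (⨅ a : ↥A, (f a).eigenspace (χ a)) = ⊥
    · rw [h]; exact bot_le
    · exact le_iSup₂_of_le (f := fun χ (_ : χ ∈ weights ρ A) => ⨅ a : ↥A, (ρ a).eigenspace (χ a))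
        χ (show χ ∈ weights ρ A from h) le_rfl

theorem weight_hasEigenvalue {A : Subgroup G} {χ : ↥A → F} (hχ : χ ∈ weights ρ A) (a : ↥A) :
    (ρ a).HasEigenvalue (χ a) := by
  rw [Module.End.hasEigenvalue_iff]
  intro h
  refine hχ (le_bot_iff.mp ?_)
  rw [← h]
  exact iInf_le (fun b : ↥A => (ρ b).eigenspace (χ b)) a

theorem eq_smul_of_weights [IsAlgClosed F] {A : Subgroup G} (hA : PFree p A)
    (hcomm : ∀ a ∈ A, ∀ b ∈ A, a * b = b * a) (a b : ↥A) (t : F)
    (h : ∀ χ ∈ weights ρ A, χ a = t * χ b) : ρ a = t • ρ b := by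
  have htop := (weights_spec (ρ := ρ) hA hcomm).2.2
  have hle : (⨆ χ ∈ weights ρ A, ⨅ a : ↥A, (ρ a).eigenspace (χ a)) ≤
      LinearMap.eqLocus (ρ a) (t • ρ b) := by
    refine iSup₂_le fun χ hχ v hv => ?_
    rw [Submodule.mem_iInf] at hv
    rw [LinearMap.mem_eqLocus, LinearMap.smul_apply, Module.End.mem_eigenspace_iff.mp (hv a),
      Module.End.mem_eigenspace_iff.mp (hv b), smul_smul, h χ hχ]
  rw [htop] at hle
  exact LinearMap.ext fun v => hle (Submodule.mem_top (x := v))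

theorem card_le_of_pow_mem_scalar [IsAlgClosed F] (hinj : Function.Injective ρ) {A : Subgroup G}
    (hA : PFree p A) (hcomm : ∀ a ∈ A, ∀ b ∈ A, a * b = b * a) 
    {n : ℕ} (hn : finrank F V ≤ n) {N : ℕ} (hN : 0 < N)
    (hpow : ∀ a ∈ A, a ^ N ∈ scalarSubgroup ρ) :
    Nat.card ↥A ≤ N ^ n * Nat.card ↥(scalarSubgroup ρ) := by
  classical
  obtain ⟨hfin, hcard, htop⟩ := weights_spec (ρ := ρ) hA hcomm
  rcases Set.eq_empty_or_nonempty (weights ρ A) with he | ⟨χ₀, hχ₀⟩
  · have hall : ∀ a : ↥A, (a : G) = 1 := fun a => hinj (by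
      have := eq_smul_of_weights (ρ := ρ) hA hcomm a 1 1 (by rw [he]; simp)
      rw [this, one_smul]; rfl)
    have h1 : Nat.card ↥A ≤ 1 := by
      haveI : Subsingleton ↥A := ⟨fun a b => Subtype.ext ((hall a).trans (hall b).symm)⟩
      exact Finite.card_le_one_iff_subsingleton.mpr inferInstance
    exact h1.trans (Nat.mul_pos (Nat.pow_pos hN) Nat.card_pos)
  haveI := hfin.fintype
  haveI := Fintype.ofFinite ↥A
  let R : ↥A → (↥(weights ρ A) → F) := fun a χ => (χ : ↥A → F) a / χ₀ a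
  have hroot : ∀ a χ, R a χ ∈ (Polynomial.nthRoots N (1 : F)).toFinset := by
    intro a χ
    rw [Multiset.mem_toFinset, Polynomial.mem_nthRoots hN, div_pow]
    obtain ⟨μ, hμ⟩ := hpow a a.2
    have key : ∀ ψ ∈ weights ρ A, ψ a ^ N = μ := by
      intro ψ hψ
      obtain ⟨v, hv, hv0⟩ := Submodule.exists_mem_ne_zero_of_ne_bot hψ
      rw [Submodule.mem_iInf] at hv
      have h1 := (show Module.End.HasEigenvector (ρ a) (ψ a) v from ⟨hv a, hv0⟩).pow_apply N
      rw [← map_pow, hμ, LinearMap.smul_apply, Module.End.one_apply] at h1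
      exact (smul_left_injective F hv0 h1).symm
    rw [key _ χ.2, key _ hχ₀, div_self]
    rw [← key _ hχ₀]
    exact pow_ne_zero _ (hasEigenvalue_ne_zero ρ (weight_hasEigenvalue hχ₀ a))
  have himg : (Finset.univ.image R).card ≤ N ^ n := by
    refine le_trans (Finset.card_le_card (t := Fintype.piFinset fun _ =>
      (Polynomial.nthRoots N (1 : F)).toFinset) ?_) ?_
    · intro r hr
      obtain ⟨a, -, rfl⟩ := Finset.mem_image.mp hr
      exact Fintype.mem_piFinset.mpr (hroot a)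
    · rw [Fintype.card_piFinset, Finset.prod_const, Finset.card_univ]
      have h1 : ((Polynomial.nthRoots N (1 : F)).toFinset).card ≤ N :=
        (Multiset.toFinset_card_le _).trans (Polynomial.card_nthRoots N 1)
      refine (Nat.pow_le_pow_left h1 _).trans (Nat.pow_le_pow_right hN ?_)
      rw [← Nat.card_eq_fintype_card, Nat.card_coe_set_eq]
      exact hcard.trans hn
  have hfib : ∀ r ∈ Finset.univ.image R,
      (Finset.univ.filter fun a => R a = r).card ≤ Nat.card ↥(scalarSubgroup ρ) := by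
    intro r hr
    obtain ⟨b, -, rfl⟩ := Finset.mem_image.mp hr
    rw [← Nat.card_eq_finsetCard]
    refine Nat.card_le_card_of_injective
      (fun a => ⟨((b : ↥A) : G)⁻¹ * ((a.1 : ↥A) : G), ?_⟩) ?_
    · have hab : R a.1 = R b := (Finset.mem_filter.mp a.2).2
      refine ⟨χ₀ a.1 / χ₀ b, ?_⟩
      have hb0 := hasEigenvalue_ne_zero ρ (weight_hasEigenvalue hχ₀ b)
      have ha0 := hasEigenvalue_ne_zero ρ (weight_hasEigenvalue hχ₀ a.1)
      have := eq_smul_of_weights (ρ := ρ) hA hcomm a.1 b (χ₀ a.1 / χ₀ b) (fun χ hχ => by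
        have e : χ a.1 / χ₀ a.1 = χ b / χ₀ b := congrFun hab ⟨χ, hχ⟩
        field_simp at e ⊢
        linear_combination e)
      rw [map_mul, this, mul_smul_comm, ← map_mul, inv_mul_cancel, map_one]
    · intro x y e
      exact Subtype.ext (Subtype.ext (mul_left_cancel (Subtype.ext_iff.mp e)))
  calc Nat.card ↥A = (Finset.univ : Finset ↥A).card := Nat.card_eq_fintype_card
    _ ≤ Nat.card ↥(scalarSubgroup ρ) * (Finset.univ.image R).card :=
        Finset.card_le_mul_card_image _ _ hfib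
    _ ≤ Nat.card ↥(scalarSubgroup ρ) * N ^ n := Nat.mul_le_mul_left _ himg
    _ = _ := mul_comm _ _

theorem ncard_conj_le [IsAlgClosed F] (hinj : Function.Injective ρ) {A : Subgroup G}
    (hA : PFree p A) (hcomm : ∀ a ∈ A, ∀ b ∈ A, a * b = b * a)
    {n : ℕ} (hn : finrank F V ≤ n) (hn0 : 0 < n) (y : G) :
    {b : G | b ∈ A ∧ ∃ h : G, h * y * h⁻¹ = b}.ncard ≤ n ^ n := by
  classical
  obtain ⟨hfin, hcard, -⟩ := weights_spec (ρ := ρ) hA hcomm
  obtain ⟨hSfin, hS⟩ := ncard_hasEigenvalue_le (ρ y)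
  haveI := hfin.fintype
  haveI := hSfin.fintype
  rw [← Nat.card_coe_set_eq]
  let Φ : {b : G | b ∈ A ∧ ∃ h : G, h * y * h⁻¹ = b} →
      (↥(weights ρ A) → {μ : F | (ρ y).HasEigenvalue μ}) := fun b χ =>
    ⟨(χ : ↥A → F) ⟨b.1, b.2.1⟩, by
      obtain ⟨h, hh⟩ := b.2.2
      have h1 := weight_hasEigenvalue χ.2 (⟨b.1, b.2.1⟩ : ↥A)
      have h2 := hasEigenvalue_conj ρ (h := h⁻¹) h1
      have e : h⁻¹ * ((⟨b.1, b.2.1⟩ : ↥A) : G) * h⁻¹⁻¹ = y := by
        show h⁻¹ * b.1 * h⁻¹⁻¹ = y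
        rw [← hh]; group
      rwa [e] at h2⟩
  have hΦ : Function.Injective Φ := by
    intro b b' e
    refine Subtype.ext (hinj ?_)
    have := eq_smul_of_weights (ρ := ρ) hA hcomm ⟨b.1, b.2.1⟩ ⟨b'.1, b'.2.1⟩ 1 (fun χ hχ => by
      rw [one_mul]
      exact congrArg Subtype.val (congrFun e ⟨χ, hχ⟩))
    simpa using this
  refine (Nat.card_le_card_of_injective Φ hΦ).trans ?_
  rw [Nat.card_fun, Nat.card_coe_set_eq, Nat.card_coe_set_eq]
  exact (Nat.pow_le_pow_left (hS.trans hn) _).trans (Nat.pow_le_pow_right hn0 (hcard.trans hn))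

theorem ncard_scal_le [IsAlgClosed F] (hinj : Function.Injective ρ)
    {n : ℕ} (hn : finrank F V ≤ n) (hn0 : 0 < n) (x : G) :
    {ζ : G | ζ ∈ scalarSubgroup ρ ∧ ∃ h : G, h * x * h⁻¹ = x * ζ}.ncard ≤ n := by
  rcases subsingleton_or_nontrivial V with hV | hV
  · have : Subsingleton G := ⟨fun a b => hinj (LinearMap.ext fun v => Subsingleton.elim _ _)⟩
    exact (Set.ncard_le_one_of_subsingleton _).trans hn0
  obtain ⟨μ, hμ⟩ := Module.End.exists_eigenvalue (ρ x)
  obtain ⟨hSfin, hS⟩ := ncard_hasEigenvalue_le (ρ x)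
  have hμ0 : μ ≠ 0 := hasEigenvalue_ne_zero ρ hμ
  refine le_trans ?_ (hS.trans hn)
  classical
  refine Set.ncard_le_ncard_of_injOn (fun ζ => if h : ζ ∈ scalarSubgroup ρ then h.choose * μ else 0)
    ?_ ?_ hSfin
  · rintro ζ ⟨hζ, h, hh⟩
    simp only [dif_pos hζ]
    have h1 := hasEigenvalue_conj ρ (h := h) hμ
    rw [hh] at h1
    -- `x` has eigenvalue `c μ`, as `h x h⁻¹ = x ζ`
    obtain ⟨v, hv⟩ := hμ.exists_hasEigenvector
    have h3 : (ρ (x * ζ)).HasEigenvalue (hζ.choose * μ) := by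
      refine Module.End.hasEigenvalue_of_hasEigenvector (x := v) ⟨?_, hv.2⟩
      have hs := hζ.choose_spec
      generalize hζ.choose = c at hs ⊢
      rw [Module.End.mem_eigenspace_iff, map_mul, hs, Module.End.mul_apply,
        LinearMap.smul_apply, Module.End.one_apply, map_smul, hv.apply_eq_smul, smul_smul]
    rw [← hh] at h3
    have h4 := hasEigenvalue_conj ρ (h := h⁻¹) h3
    rwa [show h⁻¹ * (h * x * h⁻¹) * h⁻¹⁻¹ = x by group] at h4
  · rintro ζ ⟨hζ, -⟩ ξ ⟨hξ, -⟩ e
    simp only [dif_pos hζ, dif_pos hξ] at e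
    refine hinj ?_
    rw [hζ.choose_spec, hξ.choose_spec, mul_right_cancel₀ hμ0 e]

end Linear

end CfsgLib.ModularJordan
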