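/-
A finite linear group in characteristic `p` with bounded Sylow `p`-subgroup has an abelian subgroup
of bounded index.
-/
import Cfsg.Agent.Lib.ModularJordan.Count
import Cfsg.Agent.Lib.ModularJordan.Linear

set_option autoImplicit false
set_option linter.unusedSectionVars false
set_option linter.style.haveILetI false

open scoped Pointwise

universe u v

namespace CfsgLib.ModularJordan

open Module

/-- The induction statement. -/
def Bound (p n m c : ℕ) : Prop :=
  ∀ (G : Type u) [Group G] [Finite G] (F : Type v) [Field F] [CharP F p] [IsAlgClosed F]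
    (V : Type v) [AddCommGroup V] [Module F V] [FiniteDimensional F V] (ρ : G →* End F V),
    Function.Injective ρ → finrank F V ≤ n → (Nat.card G).factorization p ≤ m →
    ∃ A : Subgroup G, (∀ a ∈ A, ∀ b ∈ A, a * b = b * a) ∧ PFree p A ∧ A.index ≤ c

theorem bound_mono {p n m c c' : ℕ} (h : Bound.{u, v} p n m c) (hc : c ≤ c') :
    Bound.{u, v} p n m c' := by
  intro G _ _ F _ _ _ V _ _ _ ρ hinj hn hm
  obtain ⟨A, h1, h2, h3⟩ := h G F V ρ hinj hn hm
  exact ⟨A, h1, h2, h3.trans hc⟩

section Reduce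

variable {p : ℕ} [Fact p.Prime] {H : Type u} [Group H] [Finite H]
variable {F : Type v} [Field F] [CharP F p] [IsAlgClosed F]
variable {V : Type v} [AddCommGroup V] [Module F V] [FiniteDimensional F V]

theorem preimage_bound {n m c : ℕ} (hc : Bound.{u, v} p n m c) (f : H →* End F V)
    (hn : finrank F V ≤ n) (hm : (Nat.card H).factorization p ≤ m) :
    ∃ P : Subgroup H, P.index ≤ c ∧ (∀ a ∈ P, ∀ b ∈ P, f (a * b) = f (b * a)) ∧
      ∀ a ∈ P, f a ^ p = 1 → f a = 1 := by
  set g : H →* (End F V)ˣ := f.toHomUnits with hg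
  set e : H ⧸ g.ker →* End F V := (Units.coeHom _).comp (QuotientGroup.kerLift g) with he
  have hmk : ∀ a : H, e (a : H ⧸ g.ker) = f a := fun a => rfl
  have heinj : Function.Injective e :=
    Units.val_injective.comp (QuotientGroup.kerLift_injective g)
  obtain ⟨A, hA, hfree, hidx⟩ := hc (H ⧸ g.ker) F V e heinj hn
    (le_trans ((Nat.factorization_le_iff_dvd Nat.card_pos.ne' Nat.card_pos.ne').mpr
      (Subgroup.card_quotient_dvd_card g.ker) p) hm)
  refine ⟨A.comap (QuotientGroup.mk' g.ker), ?_, fun a ha b hb => ?_, fun a ha h => ?_⟩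
  · rwa [Subgroup.index_comap_of_surjective _ (QuotientGroup.mk'_surjective _)]
  · rw [← hmk, ← hmk, QuotientGroup.mk_mul, QuotientGroup.mk_mul]
    exact congrArg e (hA _ ha _ hb)
  · have e1 : ((a : H ⧸ g.ker)) ^ p = 1 := by
      apply heinj
      rw [map_pow, map_one, hmk]
      exact h
    have h2 : ((a : H ⧸ g.ker)) = 1 := hfree _ ha e1
    rw [← hmk, h2, map_one]

/-- The representation on an invariant submodule. -/
def subRep (ρ : H →* End F V) (W : Submodule F V) (hW : ∀ h, ∀ w ∈ W, ρ h w ∈ W) :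
    H →* End F W where
  toFun h := (ρ h).restrict (hW h)
  map_one' := by
    ext w
    simp
  map_mul' a b := by
    ext w
    simp

/-- The representation on the quotient by an invariant submodule. -/
def quotRep (ρ : H →* End F V) (W : Submodule F V) (hW : ∀ h, ∀ w ∈ W, ρ h w ∈ W) :
    H →* End F (V ⧸ W) where
  toFun h := W.mapQ W (ρ h) (hW h)
  map_one' := by
    apply Submodule.linearMap_qext
    ext v
    simp
  map_mul' a b := by
    apply Submodule.linearMap_qext
    ext v
    simp

theorem reducible {n m c : ℕ} (hc : Bound.{u, v} p n m c) (ρ : H →* End F V)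
    (hinj : Function.Injective ρ) (W : Submodule F V) (hW : ∀ h, ∀ w ∈ W, ρ h w ∈ W)
    (hW1 : finrank F W ≤ n) (hW2 : finrank F (V ⧸ W) ≤ n)
    (hm : (Nat.card H).factorization p ≤ m) :
    ∃ A : Subgroup H, (∀ a ∈ A, ∀ b ∈ A, a * b = b * a) ∧ PFree p A ∧
      A.index ≤ p ^ m * (c * c) := by
  have hp : p.Prime := Fact.out
  set f₁ := subRep ρ W hW with hf₁
  set f₂ := quotRep ρ W hW with hf₂
  obtain ⟨P₁, hi1, hc1, hq1⟩ := preimage_bound hc f₁ hW1 hm
  obtain ⟨P₂, hi2, hc2, hq2⟩ := preimage_bound hc f₂ hW2 hm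
  set P : Subgroup H := P₁ ⊓ P₂ with hP
  set K : Subgroup H := f₁.ker ⊓ f₂.ker with hK
  -- the kernel consists of elements killed by `p`
  have hKp : ∀ k ∈ K, k ^ p = 1 := by
    intro k ⟨hk1, hk2⟩
    refine hinj ?_
    set N : End F V := ρ k - 1 with hN
    have hkill : ∀ w ∈ W, N w = 0 := by
      intro w hw
      have h0 := congrArg Subtype.val (LinearMap.congr_fun (MonoidHom.mem_ker.mp hk1) ⟨w, hw⟩)
      simp only [hf₁, subRep, MonoidHom.coe_mk, OneHom.coe_mk, Module.End.one_apply,
        LinearMap.coe_restrict_apply] at h0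
      simp [hN, h0]
    have hinto : ∀ v, N v ∈ W := by
      intro v
      have h0 := LinearMap.congr_fun (MonoidHom.mem_ker.mp hk2) (Submodule.Quotient.mk v)
      simp only [hf₂, quotRep, MonoidHom.coe_mk, OneHom.coe_mk, Module.End.one_apply,
        Submodule.mapQ_apply] at h0
      rw [Submodule.Quotient.eq] at h0
      simpa [hN] using h0
    have hN2 : N * N = 0 := by
      ext v
      exact hkill _ (hinto v)
    have hNp : N ^ p = 0 := by
      obtain ⟨j, hj⟩ := Nat.exists_eq_add_of_le hp.two_le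
      rw [hj, pow_add, pow_two, hN2, zero_mul]
    rcases subsingleton_or_nontrivial V with hV | hV
    · exact LinearMap.ext fun v => Subsingleton.elim _ _
    haveI : CharP (End F V) p :=
      charP_of_injective_algebraMap (algebraMap F (End F V)).injective p
    rw [map_pow, map_one]
    have h5 := sub_pow_char_of_commute p (Commute.one_right (ρ k))
    rw [← hN, hNp, one_pow] at h5
    exact sub_eq_zero.mp h5.symm
  have hKgroup : IsPGroup p K := fun k => ⟨1, by
    rw [pow_one]; exact Subtype.ext (by rw [SubmonoidClass.coe_pow]; exact hKp k k.2)⟩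
  have hKn : (K.subgroupOf P).Normal := by
    haveI : K.Normal := by rw [hK]; infer_instance
    infer_instance
  set KP : Subgroup ↥P := K.subgroupOf P with hKP
  have hKPgroup : IsPGroup p KP := fun k => ⟨1, by
    rw [pow_one]
    exact Subtype.ext (Subtype.ext (by
      rw [SubmonoidClass.coe_pow, SubmonoidClass.coe_pow]; exact hKp _ k.2))⟩
  have hcop : (Nat.card KP).Coprime KP.index := by
    obtain ⟨j, hj⟩ := IsPGroup.iff_card.mp hKPgroup
    rw [hj]
    refine Nat.Coprime.pow_left _ ((Nat.Prime.coprime_iff_not_dvd hp).mpr fun hd => ?_)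
    rw [Subgroup.index_eq_card] at hd
    obtain ⟨q, hq⟩ := exists_prime_orderOf_dvd_card' p hd
    obtain ⟨a, rfl⟩ := QuotientGroup.mk_surjective q
    have h1 : a ^ p ∈ KP := by
      rw [← QuotientGroup.eq_one_iff, QuotientGroup.mk_pow, ← hq]
      exact pow_orderOf_eq_one _
    obtain ⟨h1a, h1b⟩ := h1
    have h1a' : f₁ ((a : H) ^ p) = 1 := by simpa using MonoidHom.mem_ker.mp h1a
    have h1b' : f₂ ((a : H) ^ p) = 1 := by simpa using MonoidHom.mem_ker.mp h1b
    rw [map_pow] at h1a' h1b'
    have h2 : a ∈ KP := ⟨MonoidHom.mem_ker.mpr (hq1 _ a.2.1 h1a'),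
      MonoidHom.mem_ker.mpr (hq2 _ a.2.2 h1b')⟩
    rw [(QuotientGroup.eq_one_iff a).mpr h2, orderOf_one] at hq
    exact hp.one_lt.ne hq
  obtain ⟨C, hC⟩ := Subgroup.exists_right_complement'_of_coprime hcop
  refine ⟨C.map P.subtype, ?_, ?_, ?_⟩
  · rintro _ ⟨a, ha, rfl⟩ _ ⟨b, hb, rfl⟩
    have hmem : a * b * (b * a)⁻¹ ∈ KP ⊓ C := by
      refine ⟨⟨?_, ?_⟩, C.mul_mem (C.mul_mem ha hb) (C.inv_mem (C.mul_mem hb ha))⟩
      · refine MonoidHom.mem_ker.mpr ?_
        show f₁ ((a : H) * b * ((b : H) * a)⁻¹) = 1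
        rw [map_mul, hc1 _ a.2.1 _ b.2.1, ← map_mul, mul_inv_cancel, map_one]
      · refine MonoidHom.mem_ker.mpr ?_
        show f₂ ((a : H) * b * ((b : H) * a)⁻¹) = 1
        rw [map_mul, hc2 _ a.2.2 _ b.2.2, ← map_mul, mul_inv_cancel, map_one]
    rw [hC.isCompl.inf_eq_bot, Subgroup.mem_bot, mul_inv_eq_one] at hmem
    exact congrArg Subtype.val hmem
  · rintro _ ⟨a, ha, rfl⟩ hap
    have h1a : f₁ (a : H) ^ p = 1 := by rw [← map_pow]; exact (congrArg f₁ hap).trans (map_one _)
    have h1b : f₂ (a : H) ^ p = 1 := by rw [← map_pow]; exact (congrArg f₂ hap).trans (map_one _)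
    have h2 : a ∈ KP ⊓ C := ⟨⟨MonoidHom.mem_ker.mpr (hq1 _ a.2.1 h1a),
      MonoidHom.mem_ker.mpr (hq2 _ a.2.2 h1b)⟩, ha⟩
    rw [hC.isCompl.inf_eq_bot, Subgroup.mem_bot] at h2
    rw [h2]; rfl
  · rw [Subgroup.index_map_subtype]
    have h1 : C.index = Nat.card KP := hC.index_eq_card
    have h2 : Nat.card KP ≤ p ^ m := by
      obtain ⟨j, hj⟩ := IsPGroup.iff_card.mp hKPgroup
      rw [hj]
      refine Nat.pow_le_pow_right hp.pos ((hp.pow_dvd_iff_le_factorization Nat.card_pos.ne').mp ?_
        |>.trans hm)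
      rw [← hj]
      exact (Subgroup.card_subgroup_dvd_card KP).trans (Subgroup.card_subgroup_dvd_card P)
    have h3 : P.index ≤ c * c :=
      le_trans Subgroup.index_inf_le (Nat.mul_le_mul hi1 hi2)
    rw [h1]
    exact Nat.mul_le_mul h2 h3

end Reduce

theorem exists_bound (p : ℕ) [Fact p.Prime] (m : ℕ) :
    ∀ n : ℕ, ∃ c, Bound.{u, v} p n m c := by
  intro n
  induction n with
  | zero =>
    refine ⟨1, ?_⟩
    intro G _ _ F _ _ _ V _ _ _ ρ hinj hn hm
    haveI : Subsingleton V := Module.finrank_zero_iff.mp (Nat.le_zero.mp hn)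
    haveI : Subsingleton G := ⟨fun a b => hinj (LinearMap.ext fun v => Subsingleton.elim _ _)⟩
    refine ⟨⊤, fun a _ b _ => Subsingleton.elim _ _, fun a _ _ => Subsingleton.elim _ _, ?_⟩
    rw [Subgroup.index_top]
  | succ n ih =>
    obtain ⟨c, hc⟩ := ih
    refine ⟨cBd (n + 1) (p ^ m * (c * c) + 1) (2 * cC0 (n + 1) (p ^ m * (c * c) + 1)) 0, ?_⟩
    intro G _ _ F _ _ _ V _ _ _ ρ hinj hn hm
    set Z := scalarSubgroup ρ with hZ
    have hcent : ∀ x : G, x ∉ Z → ∃ A : Subgroup G,
        (∀ a ∈ A, ∀ b ∈ A, a * b = b * a) ∧ PFree p A ∧ A ≤ Subgroup.centralizer {x} ∧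
        Nat.card ↥(Subgroup.centralizer ({x} : Set G)) ≤
          (p ^ m * (c * c) + 1) * Nat.card ↥A := by
      intro x hx
      have hnt : Nontrivial V := by
        by_contra h
        rw [not_nontrivial_iff_subsingleton] at h
        exact hx ⟨0, LinearMap.ext fun v => Subsingleton.elim _ _⟩
      obtain ⟨μ, hμ⟩ := Module.End.exists_eigenvalue (ρ x)
      set W := (ρ x).eigenspace μ
      have hW0 : W ≠ ⊥ := hμ
      have hW1 : W ≠ ⊤ := fun h => hx ⟨μ, LinearMap.ext fun v => by
        have : v ∈ W := h ▸ Submodule.mem_top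
        simpa using Module.End.mem_eigenspace_iff.mp this⟩
      set H := Subgroup.centralizer ({x} : Set G)
      have hWinv : ∀ h : ↥H, ∀ w ∈ W, (ρ.comp H.subtype) h w ∈ W := by
        intro h w hw
        have hc2 : ρ x * ρ (h : G) = ρ (h : G) * ρ x := by
          rw [← map_mul, ← map_mul, Subgroup.mem_centralizer_singleton_iff.mp h.2]
        rw [Module.End.mem_eigenspace_iff] at hw ⊢
        show ρ x (ρ (h : G) w) = μ • ρ (h : G) w
        rw [← Module.End.mul_apply, hc2, Module.End.mul_apply, hw, map_smul]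
      have hdim : finrank F W + finrank F (V ⧸ W) = finrank F V := by
        rw [add_comm]; exact Submodule.finrank_quotient_add_finrank W
      have hWpos : 0 < finrank F W := by
        rw [Nat.pos_iff_ne_zero, Ne, Submodule.finrank_eq_zero]; exact hW0
      have hWlt : finrank F W < finrank F V := Submodule.finrank_lt hW1
      obtain ⟨A, hA1, hA2, hA3⟩ := reducible hc (ρ.comp H.subtype)
        (hinj.comp Subtype.val_injective) W hWinv (by omega) (by omega)
        (le_trans ((Nat.factorization_le_iff_dvd Nat.card_pos.ne' Nat.card_pos.ne').mpr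
          (Subgroup.card_subgroup_dvd_card H) p) hm)
      refine ⟨A.map H.subtype, ?_, ?_, ?_, ?_⟩
      · rintro _ ⟨a, ha, rfl⟩ _ ⟨b, hb, rfl⟩
        exact congrArg Subtype.val (hA1 a ha b hb)
      · rintro _ ⟨a, ha, rfl⟩ h
        rw [hA2 a ha (Subtype.ext (by simpa using h))]
        rfl
      · rintro _ ⟨a, -, rfl⟩
        exact a.2
      · rw [Nat.card_congr (Subgroup.equivMapOfInjective A H.subtype Subtype.val_injective).symm.toEquiv,
          ← A.index_mul_card]
        exact Nat.mul_le_mul_right _ (hA3.trans (Nat.le_succ _))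
    have hZc := scalar_central (ρ := ρ) hinj
    have hZp : PFree p Z := scalar_pfree hinj
    let C : Ctx G (n + 1) (p ^ m * (c * c) + 1) :=
      { Z := Z
        Ab := fun A => Z ≤ A ∧ (∀ a ∈ A, ∀ b ∈ A, a * b = b * a) ∧ PFree p A
        npos := Nat.succ_pos n
        Kpos := Nat.succ_pos _
        central := hZc
        base := ⟨le_rfl, fun a _ b hb => hZc b hb a, hZp⟩
        mem_Z := fun A h => h.1
        comm := fun A h => h.2.1
        mono := fun A B h h1 h2 => ⟨h1, fun a ha b hb => h.2.1 a (h2 ha) b (h2 hb),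
          fun a ha => h.2.2 a (h2 ha)⟩
        conj := fun A g h => by
          refine ⟨fun ζ hζ => ?_, ?_, ?_⟩
          · rw [Subgroup.mem_pointwise_smul_iff_inv_smul_mem, MulAut.smul_def,
              MulAut.conj_inv_apply, mul_assoc, ← hZc ζ hζ g, inv_mul_cancel_left]
            exact h.1 hζ
          · rintro a ⟨a', ha', rfl⟩ b ⟨b', hb', rfl⟩
            show MulAut.conj g a' * MulAut.conj g b' = MulAut.conj g b' * MulAut.conj g a'
            rw [← map_mul, ← map_mul, h.2.1 a' ha' b' hb']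
          · rintro a ⟨a', ha', rfl⟩ hpow
            change (MulAut.conj g a') ^ p = 1 at hpow
            show MulAut.conj g a' = 1
            rw [← map_pow] at hpow
            rw [h.2.2 a' ha' ((MulEquiv.map_eq_one_iff _).mp hpow), map_one]
        cent := fun x hx => by
          obtain ⟨A, h1, h2, h3, h4⟩ := hcent x hx
          refine ⟨A ⊔ Z, ⟨le_sup_right, ?_, h2.sup_central hZp hZc⟩, sup_le h3 fun ζ hζ =>
            Subgroup.mem_centralizer_singleton_iff.mpr (hZc ζ hζ x).symm, h4.trans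
              (Nat.mul_le_mul_left _ (Nat.card_le_card_of_injective _
                (Subgroup.inclusion_injective le_sup_left)))⟩
          haveI : Z.Normal := ⟨fun ζ hζ g => by rw [hZc ζ hζ g, mul_inv_cancel_right]; exact hζ⟩
          intro a ha b hb
          obtain ⟨a, ha', ζ, hζ, rfl⟩ := Subgroup.mem_sup_of_normal_right.mp ha
          obtain ⟨b, hb', ξ, hξ, rfl⟩ := Subgroup.mem_sup_of_normal_right.mp hb
          calc a * ζ * (b * ξ) = a * (ζ * b) * ξ := by group
            _ = a * b * (ζ * ξ) := by rw [← hZc ζ hζ b]; group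
            _ = b * a * (ξ * ζ) := by rw [h1 a ha' b hb', hZc ξ hξ ζ]
            _ = b * (a * ξ) * ζ := by group
            _ = b * ξ * (a * ζ) := by rw [hZc ξ hξ a]; group
        scal := fun x => ncard_scal_le hinj hn (Nat.succ_pos n) x
        powBound := fun A h N hN hpow =>
          card_le_of_pow_mem_scalar hinj h.2.2 h.2.1 hn hN hpow
        orbBound := fun A h y _ => ncard_conj_le hinj h.2.2 h.2.1 hn (Nat.succ_pos n) y }
    obtain ⟨A, hA, hidx⟩ := C.exists_bounded_index
    exact ⟨A, hA.2.1, hA.2.2, hidx⟩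

end CfsgLib.ModularJordan
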